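import Cfsg.Agent.Lib.PiClosedTwo.SylowAct
import Cfsg.Agent.Lib.HallE8.Strong
import Cfsg.Agent.S0215

/-!
# A simple group with a Sylow `2`-subgroup of type `U₃(4)`: the four-group and the normalizer
-/

set_option autoImplicit false
set_option linter.unusedSectionVars false
set_option linter.style.haveILetI false

namespace CfsgLib.U34Char

open Subgroup Cfsg CfsgLib.HallE8 CfsgLib.ZCReduction CfsgLib.PiClosedTwo
open scoped commutatorElement

universe u

variable {G : Type u} [Group G] [Finite G]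

/-- The configuration. -/
structure Conf (S : Sylow 2 G) : Prop where
  simple : IsSimpleGroup G
  hs : CfsgLib.SuzukiTwo.Sixty (S : Subgroup G)

/-- The centre of `S`, as a subgroup of `G`. -/
def four (S : Sylow 2 G) : Subgroup G := (center (S : Subgroup G)).map (S : Subgroup G).subtype

/-- The two- and odd parts. -/
theorem exists_parts (n : G) : ∃ u ∈ zpowers n, ∃ w ∈ zpowers n, IsTwoEl u ∧ Odd (orderOf w) ∧ n = u * w := by
  obtain ⟨k, m, hm, hk⟩ := Nat.exists_eq_two_pow_mul_odd (orderOf_pos n).ne'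
  refine ⟨(n ^ m) ^ Nat.gcdB (2 ^ k) m, zpow_mem (pow_mem (mem_zpowers n) m) _,
    (n ^ 2 ^ k) ^ Nat.gcdA (2 ^ k) m, zpow_mem (pow_mem (mem_zpowers n) _) _, ?_, ?_, ?_⟩
  · obtain ⟨i, -, hi⟩ := (Nat.dvd_prime_pow Nat.prime_two).mp (orderOf_dvd_of_pow_eq_one
      (show ((n ^ m) ^ Nat.gcdB (2 ^ k) m) ^ 2 ^ k = 1 by
        rw [← zpow_natCast, ← zpow_mul, mul_comm, zpow_mul, zpow_natCast, ← pow_mul, mul_comm, ← hk,
          pow_orderOf_eq_one, one_zpow]))
    exact ⟨i, hi⟩
  · refine Odd.of_dvd_nat hm (orderOf_dvd_of_pow_eq_one ?_)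
    rw [← zpow_natCast, ← zpow_mul, mul_comm, zpow_mul, zpow_natCast, ← pow_mul, ← hk, pow_orderOf_eq_one,
      one_zpow]
  · rw [← zpow_natCast n m, ← zpow_natCast n (2 ^ k), ← zpow_mul, ← zpow_mul, ← zpow_add, add_comm,
      ← Nat.gcd_eq_gcd_ab, ((Nat.coprime_two_left.mpr hm).pow_left k).gcd_eq_one, Nat.cast_one, zpow_one]

/-- An element of odd order is a power of its square. -/
theorem mem_of_sq_mem {H : Subgroup G} {w : G} (hw : Odd (orderOf w)) (h : w ^ 2 ∈ H) : w ∈ H := by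
  obtain ⟨j, hj⟩ := hw
  have h1 := pow_mem h (j + 1)
  rwa [← pow_mul, show 2 * (j + 1) = (2 * j + 1) + 1 by ring, pow_succ, ← hj, pow_orderOf_eq_one, one_mul] at h1

namespace Conf

variable {S : Sylow 2 G}

theorem mem_four (S : Sylow 2 G) {x : G} :
    x ∈ four S ↔ ∃ hx : x ∈ (S : Subgroup G), (⟨x, hx⟩ : (S : Subgroup G)) ∈ center (S : Subgroup G) := by
  constructor
  · rintro ⟨y, hy, rfl⟩
    exact ⟨y.2, hy⟩
  · rintro ⟨hx, h⟩
    exact ⟨_, h, rfl⟩

theorem four_le (_h : Conf S) : four S ≤ (S : Subgroup G) := map_subtype_le _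

theorem center_iff (_h : Conf S) (x : (S : Subgroup G)) :
    x ∈ center (S : Subgroup G) ↔ (x : G) ∈ four S :=
  ⟨fun hx => ⟨x, hx, rfl⟩, fun hx => ((mem_four S).mp hx).2⟩

theorem four_sq (h : Conf S) {x : G} (hx : x ∈ four S) : x * x = 1 := by
  obtain ⟨hx', hc⟩ := (mem_four S).mp hx
  exact congrArg Subtype.val (h.hs.cen _ hc)

theorem four_comm (_h : Conf S) {x s : G} (hx : x ∈ four S) (hs : s ∈ (S : Subgroup G)) : x * s = s * x := by
  obtain ⟨hx', hc⟩ := (mem_four S).mp hx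
  exact (congrArg Subtype.val (mem_center_iff.mp hc ⟨s, hs⟩)).symm

theorem mem_four_of_sq (h : Conf S) {x : G} (hx : x ∈ (S : Subgroup G)) (h2 : x * x = 1) : x ∈ four S :=
  (mem_four S).mpr ⟨hx, h.hs.inv _ (Subtype.ext h2)⟩

theorem card_four (h : Conf S) : Nat.card (four S) = 4 := by
  rw [four, card_map_of_injective (S : Subgroup G).subtype_injective, h.hs.card_center]

theorem sq_mem (h : Conf S) {s : G} (hs : s ∈ (S : Subgroup G)) : s * s ∈ four S :=
  (h.center_iff (⟨s, hs⟩ * ⟨s, hs⟩)).mp (h.hs.sq _)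

theorem comm_mem (h : Conf S) {s t : G} (hs : s ∈ (S : Subgroup G)) (ht : t ∈ (S : Subgroup G)) :
    ⁅s, t⁆ ∈ four S :=
  (h.center_iff ⁅(⟨s, hs⟩ : (S : Subgroup G)), ⟨t, ht⟩⁆).mp (h.hs.cc _ _)

theorem four_cases (h : Conf S) {x : G} (hx : x ∈ four S) (h1 : x ≠ 1) : IsCentInv S x :=
  ⟨h.four_le hx, ⟨h1, h.four_sq hx⟩, fun _ hs => h.four_comm hx hs⟩

theorem sylow_le_cent (h : Conf S) : (S : Subgroup G) ≤ centralizer (four S : Set G) :=
  fun _ hs => mem_centralizer_iff.mpr fun _ hx => h.four_comm hx hs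

theorem exists_noncentral (h : Conf S) : ∃ u ∈ (S : Subgroup G), u ∉ four S := by
  by_contra hc
  push Not at hc
  have := card_le_of_le (show (S : Subgroup G) ≤ four S from hc)
  rw [h.card_four, h.hs.card] at this
  omega

theorem exists_ne_one (h : Conf S) : ∃ a ∈ four S, a ≠ 1 := by
  by_contra hc
  push Not at hc
  have := h.card_four
  rw [(eq_bot_iff_forall _).mpr hc, card_bot] at this
  omega

theorem nonab (h : Conf S) : ¬ IsMulCommutative G := by
  intro hc
  obtain ⟨u, hu, huV⟩ := h.exists_noncentral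
  exact huV ((mem_four S).mpr ⟨hu, mem_center_iff.mpr fun y => Subtype.ext (hc.is_comm.comm _ _)⟩)

theorem even (h : Conf S) : 2 ∣ Nat.card G := by
  have := Subgroup.card_subgroup_dvd_card (S : Subgroup G)
  rw [h.hs.card] at this
  exact (by norm_num : 2 ∣ 64).trans this

theorem normal_cases (h : Conf S) (N : Subgroup G) [N.Normal] : N = ⊥ ∨ N = ⊤ :=
  haveI := h.simple
  IsSimpleGroup.eq_bot_or_eq_top_of_normal N inferInstance

theorem center_eq_bot (h : Conf S) : center G = ⊥ := by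
  rcases h.normal_cases (center G) with e | e
  · exact e
  · exact absurd ⟨⟨fun a b => (mem_center_iff.mp (e ▸ mem_top a) b).symm⟩⟩ h.nonab

theorem cent_ne_top (h : Conf S) {v : G} (hv : v ≠ 1) : centralizer ({v} : Set G) ≠ ⊤ := fun e =>
  hv (mem_bot.mp (h.center_eq_bot ▸ mem_center_iff.mpr fun g =>
    mem_centralizer_singleton_iff.mp (e ▸ mem_top g)))

theorem sylow_normalizer_le (h : Conf S) :
    normalizer ((S : Subgroup G) : Set G) ≤ normalizer (four S : Set G) := fun n hn =>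
  CfsgLib.Comp.mem_normalizer_of_maps fun x hx => h.mem_four_of_sq ((mem_normalizer_iff.mp hn x).mp (h.four_le hx))
    (by rw [show n * x * n⁻¹ * (n * x * n⁻¹) = n * (x * x) * n⁻¹ by group, h.four_sq hx]; group)

/-- An element of odd order normalizing the four-group and fixing one of its involutions centralizes it. -/
theorem cent_of_fix (h : Conf S) {g v : G} (hg : g ∈ normalizer (four S : Set G)) (hodd : Odd (orderOf g))
    (hv : v ∈ four S) (h1 : v ≠ 1) (hgv : g * v = v * g) : g ∈ centralizer (four S : Set G) := by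
  classical
  refine mem_centralizer_iff.mpr fun w hw => ?_
  by_contra hne
  have hw1 : w ≠ 1 := fun e => hne (by rw [e, one_mul, mul_one])
  have hwv : w ≠ v := fun e => hne (by rw [e]; exact hgv.symm)
  set σ : G → G := fun x => g * x * g⁻¹
  have hσV : ∀ x ∈ four S, σ x ∈ four S := fun x hx => (mem_normalizer_iff.mp hg x).mp hx
  have hσv : σ v = v := by show g * v * g⁻¹ = v; rw [hgv, mul_inv_cancel_right]
  have hσw : σ w ≠ w := fun e => hne (mul_inv_eq_iff_eq_mul.mp e).symm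
  have hσσ : σ (σ w) = w := by
    by_contra e
    have h2 : σ w ≠ v := fun e' => hwv (mul_left_cancel (mul_right_cancel (e'.trans hσv.symm)))
    have h3 : σ (σ w) ≠ σ w := fun e' => hσw (mul_left_cancel (mul_right_cancel e'))
    have h4 : σ (σ w) ≠ v := fun e' => h2 (mul_left_cancel (mul_right_cancel (e'.trans hσv.symm)))
    have h5 : σ w ≠ 1 := fun e' => hw1 (conj_eq_one_iff.mp e')
    have h6 : σ (σ w) ≠ 1 := fun e' => h5 (conj_eq_one_iff.mp e')
    have hsub : ({1, v, w, σ w, σ (σ w)} : Finset G) ⊆ (Set.toFinite (four S : Set G)).toFinset := by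
      intro x hx
      simp only [Finset.mem_insert, Finset.mem_singleton] at hx
      rw [Set.Finite.mem_toFinset]
      rcases hx with rfl | rfl | rfl | rfl | rfl
      exacts [one_mem _, hv, hw, hσV w hw, hσV _ (hσV w hw)]
    have hc := Finset.card_le_card hsub
    rw [← Set.ncard_eq_toFinset_card, ← Nat.card_coe_set_eq, SetLike.coe_sort_coe, h.card_four] at hc
    rw [Finset.card_insert_of_notMem (by simp [h1.symm, hw1.symm, h5.symm, h6.symm]),
      Finset.card_insert_of_notMem (by simp [hwv.symm, h2.symm, h4.symm]),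
      Finset.card_insert_of_notMem (by simp [hσw.symm, Ne.symm e]),
      Finset.card_insert_of_notMem (by simp [h3.symm]), Finset.card_singleton] at hc
    omega
  have h2 : g ^ 2 ∈ centralizer ({w} : Set G) := mem_centralizer_singleton_iff.mpr
    (mul_inv_eq_iff_eq_mul.mp (by
      refine Eq.trans ?_ hσσ
      show g ^ 2 * w * (g ^ 2)⁻¹ = g * (g * w * g⁻¹) * g⁻¹
      rw [pow_two]; group))
  exact hne (mem_centralizer_singleton_iff.mp (mem_of_sq_mem hodd h2)).symm

/-- An element of `N(S)` fixing an involution of the four-group centralizes it. -/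
theorem normalizer_fix (h : Conf S) {n v : G} (hn : n ∈ normalizer ((S : Subgroup G) : Set G))
    (hv : v ∈ four S) (h1 : v ≠ 1) (hnv : n * v = v * n) : n ∈ centralizer (four S : Set G) := by
  obtain ⟨u, hu, w, hw, hu2, hwo, e⟩ := exists_parts n
  have hle : zpowers n ≤ normalizer ((S : Subgroup G) : Set G) := zpowers_le.mpr hn
  rw [e]
  refine mul_mem (h.sylow_le_cent (mem_of_twoEl_normalizer S hu2 (hle hu))) ?_
  exact h.cent_of_fix (h.sylow_normalizer_le (hle hw)) hwo hv h1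
    (mem_centralizer_singleton_iff.mp ((zpowers_le.mpr (mem_centralizer_singleton_iff.mpr hnv) :
      zpowers n ≤ centralizer ({v} : Set G)) hw))

/-- Every involution of `S` is moved by the normalizer of `S`. -/
theorem exists_moved (h : Conf S) {v : G} (hv : v ∈ four S) (h1 : v ≠ 1) :
    ∃ n ∈ normalizer ((S : Subgroup G) : Set G), n * v * n⁻¹ ≠ v := by
  by_contra hcon
  push Not at hcon
  have hvc := h.four_cases hv h1
  obtain ⟨N, hN, hNodd, hNz⟩ := Cfsg.Agent.S0215.result S v hvc.2.1.orderOf_eq hvc.1 fun g hg => by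
    set w := g * v * g⁻¹ with hw
    have hwc := h.four_cases (h.mem_four_of_sq hg (hvc.2.1.conj g).2) (hvc.2.1.conj g).1
    obtain ⟨c, hc, hn⟩ := exists_cent_mul_normalizer S hvc hwc hw.symm
    have e := hcon _ hn
    rw [show c * g * v * (c * g)⁻¹ = c * w * c⁻¹ by rw [hw]; group, commute_of_mem_cent hc,
      mul_inv_cancel_right] at e
    exact e
  haveI := hN
  rcases h.normal_cases N with rfl | rfl
  · refine h1 (mem_bot.mp (h.center_eq_bot ▸ mem_center_iff.mpr fun g => ?_))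
    exact (mul_inv_eq_iff_eq_mul.mp (mul_inv_eq_one.mp (mem_bot.mp (hNz g)))).symm
  · rw [card_top] at hNodd
    exact Nat.not_even_iff_odd.mpr hNodd (even_iff_two_dvd.mpr h.even)

/-- An element of odd order of `N(S)` moving every involution of the four-group. -/
theorem exists_mover (h : Conf S) : ∃ y ∈ normalizer ((S : Subgroup G) : Set G), Odd (orderOf y) ∧
    ∀ v ∈ four S, v ≠ 1 → y * v * y⁻¹ ≠ v := by
  obtain ⟨a, ha, ha1⟩ := h.exists_ne_one
  obtain ⟨n, hn, hne⟩ := h.exists_moved ha ha1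
  obtain ⟨u, hu, w, hw, hu2, hwo, e⟩ := exists_parts n
  have hle : zpowers n ≤ normalizer ((S : Subgroup G) : Set G) := zpowers_le.mpr hn
  refine ⟨w, hle hw, hwo, fun v hv h1 e' => hne ?_⟩
  have hwC := h.cent_of_fix (h.sylow_normalizer_le (hle hw)) hwo hv h1 (mul_inv_eq_iff_eq_mul.mp e')
  have hnC : n ∈ centralizer (four S : Set G) :=
    e ▸ mul_mem (h.sylow_le_cent (mem_of_twoEl_normalizer S hu2 (hle hu))) hwC
  rw [← mem_centralizer_iff.mp hnC a ha, mul_inv_cancel_right]

/-- The normalizer of `S` is transitive on the involutions of `S`. -/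
theorem transitive (h : Conf S) {y : G} (hy : y ∈ normalizer ((S : Subgroup G) : Set G)) (hyo : Odd (orderOf y))
    (hmove : ∀ v ∈ four S, v ≠ 1 → y * v * y⁻¹ ≠ v) {v v' : G} (hv : v ∈ four S) (h1 : v ≠ 1)
    (hv' : v' ∈ four S) (h1' : v' ≠ 1) :
    v' = v ∨ v' = y * v * y⁻¹ ∨ v' = y * (y * v * y⁻¹) * y⁻¹ := by
  classical
  set σ : G → G := fun x => y * x * y⁻¹
  have hσV : ∀ x ∈ four S, σ x ∈ four S := fun x hx =>
    (mem_normalizer_iff.mp (h.sylow_normalizer_le hy) x).mp hx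
  have g1 : σ v ≠ 1 := fun e => h1 (conj_eq_one_iff.mp e)
  have g2 : σ (σ v) ≠ 1 := fun e => g1 (conj_eq_one_iff.mp e)
  have n1 : σ v ≠ v := hmove v hv h1
  have n2 : σ (σ v) ≠ σ v := hmove _ (hσV v hv) g1
  have n3 : σ (σ v) ≠ v := fun e => by
    have h2 : y ^ 2 ∈ centralizer ({v} : Set G) := mem_centralizer_singleton_iff.mpr
      (mul_inv_eq_iff_eq_mul.mp (Eq.trans (by
        show y ^ 2 * v * (y ^ 2)⁻¹ = y * (y * v * y⁻¹) * y⁻¹
        rw [pow_two]; group) e))
    exact n1 (mul_inv_eq_iff_eq_mul.mpr (mem_centralizer_singleton_iff.mp (mem_of_sq_mem hyo h2)))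
  by_contra hc
  push Not at hc
  obtain ⟨m1, m2, m3⟩ := hc
  have hsub : ({1, v, σ v, σ (σ v), v'} : Finset G) ⊆ (Set.toFinite (four S : Set G)).toFinset := by
    intro x hx
    simp only [Finset.mem_insert, Finset.mem_singleton] at hx
    rw [Set.Finite.mem_toFinset]
    rcases hx with rfl | rfl | rfl | rfl | rfl
    exacts [one_mem _, hv, hσV v hv, hσV _ (hσV v hv), hv']
  have hcard := Finset.card_le_card hsub
  rw [← Set.ncard_eq_toFinset_card, ← Nat.card_coe_set_eq, SetLike.coe_sort_coe, h.card_four] at hcard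
  rw [Finset.card_insert_of_notMem (by simp [h1.symm, g1.symm, g2.symm, h1'.symm]),
    Finset.card_insert_of_notMem (by simp [n1.symm, n3.symm, Ne.symm m1]),
    Finset.card_insert_of_notMem (by simp [n2.symm]; exact Ne.symm m2),
    Finset.card_insert_of_notMem (by simp; exact Ne.symm m3), Finset.card_singleton] at hcard
  omega

theorem exists_conj_four (h : Conf S) {v v' : G} (hv : v ∈ four S) (h1 : v ≠ 1) (hv' : v' ∈ four S) (h1' : v' ≠ 1) :
    ∃ n ∈ normalizer ((S : Subgroup G) : Set G), n * v * n⁻¹ = v' := by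
  obtain ⟨y, hy, hyo, hmove⟩ := h.exists_mover
  rcases h.transitive hy hyo hmove hv h1 hv' h1' with rfl | rfl | rfl
  · exact ⟨1, one_mem _, by group⟩
  · exact ⟨y, hy, rfl⟩
  · exact ⟨y * y, mul_mem hy hy, by group⟩

/-- An odd element centralizing the four-group and fixing a coset of it in `S` centralizes `S`. -/
theorem cent_of_fix_coset (h : Conf S) {g u : G} (hgS : g ∈ normalizer ((S : Subgroup G) : Set G))
    (hgC : g ∈ centralizer (four S : Set G)) (hodd : Odd (orderOf g)) (huS : u ∈ (S : Subgroup G))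
    (huV : u ∉ four S) (hu : g * u * g⁻¹ * u⁻¹ ∈ four S) : g ∈ centralizer ((S : Subgroup G) : Set G) := by
  set V := four S
  have hfixV : ∀ v ∈ V, g * v * g⁻¹ = v := fun v hv => by
    rw [← mem_centralizer_iff.mp hgC v hv, mul_inv_cancel_right]
  have hconj : ∀ s ∈ (S : Subgroup G), g * s * g⁻¹ ∈ (S : Subgroup G) := fun s hs' =>
    (mem_normalizer_iff.mp hgS s).mp hs'
  have hTwo : ∀ s ∈ (S : Subgroup G), IsTwoEl s := fun s hs' => isTwoEl_of_mem S.2 hs'
  have step : ∀ w ∈ (S : Subgroup G), g * w * g⁻¹ * w⁻¹ ∈ V → g * w * g⁻¹ = w := fun w hw hd => by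
    have h1 := fix_trick (w := w) (d := g * w * g⁻¹ * w⁻¹) hodd (hTwo _ (h.four_le hd)) (hfixV _ hd) (by group)
    exact mul_inv_eq_one.mp h1
  have hgu := step u huS hu
  set u' : (S : Subgroup G) := ⟨u, huS⟩
  have hu' : u' ∉ center (S : Subgroup G) := fun e => huV ((h.center_iff u').mp e)
  have hT : ∀ w ∈ (S : Subgroup G), w * u = u * w → g * w * g⁻¹ = w := by
    intro w hw hwu
    refine step w hw (h.mem_four_of_sq (mul_mem (hconj w hw) (inv_mem hw)) ?_)
    have hw1 : (⟨w, hw⟩ : (S : Subgroup G)) ∈ centralizer ({u'} : Set (S : Subgroup G)) :=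
      mem_centralizer_singleton_iff.mpr (Subtype.ext hwu)
    have hw2 : (⟨g * w * g⁻¹, hconj w hw⟩ : (S : Subgroup G)) ∈ centralizer ({u'} : Set (S : Subgroup G)) := by
      refine mem_centralizer_singleton_iff.mpr (Subtype.ext ?_)
      show g * w * g⁻¹ * u = u * (g * w * g⁻¹)
      have := conj_commute g hwu
      rwa [hgu] at this
    have hcm : g * w * g⁻¹ * w⁻¹ = w⁻¹ * (g * w * g⁻¹) :=
      congrArg Subtype.val (h.hs.centralizer_comm hu' _ hw2 _ (inv_mem hw1))
    calc g * w * g⁻¹ * w⁻¹ * (g * w * g⁻¹ * w⁻¹) = g * w * g⁻¹ * (w⁻¹ * (g * w * g⁻¹)) * w⁻¹ := by group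
      _ = g * w * g⁻¹ * (g * w * g⁻¹ * w⁻¹) * w⁻¹ := by rw [hcm]
      _ = g * (w * w) * g⁻¹ * (w * w)⁻¹ := by group
      _ = 1 := by rw [hfixV _ (h.sq_mem hw), mul_inv_cancel]
  refine mem_centralizer_iff.mpr fun s hs' => ?_
  set d := g * s * g⁻¹ * s⁻¹ with hd
  have hdS : d ∈ (S : Subgroup G) := mul_mem (hconj s hs') (inv_mem hs')
  have hdu : d * u = u * d := by
    have hc : u * s * u⁻¹ * s⁻¹ ∈ V := h.comm_mem huS hs'
    set z := u * s * u⁻¹ * s⁻¹ with hz
    set q := g * s * g⁻¹ with hq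
    have e1 : u * q * u⁻¹ = z * q := by
      calc u * q * u⁻¹ = g * u * g⁻¹ * q * (g * u * g⁻¹)⁻¹ := by rw [hgu]
        _ = g * (z * s) * g⁻¹ := by rw [hz, hq]; group
        _ = g * z * g⁻¹ * q := by rw [hq]; group
        _ = z * q := by rw [hfixV z hc]
    have hzq : z * q = q * z := h.four_comm hc (hconj s hs')
    have e2 : u * d * u⁻¹ = d := by
      calc u * d * u⁻¹ = u * q * u⁻¹ * (u * s * u⁻¹)⁻¹ := by rw [hd]; group
        _ = z * q * (z * s)⁻¹ := by rw [e1, show u * s * u⁻¹ = z * s by rw [hz]; group]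
        _ = q * z * (z * s)⁻¹ := by rw [hzq]
        _ = q * (z * s⁻¹) * z⁻¹ := by group
        _ = q * (s⁻¹ * z) * z⁻¹ := by rw [h.four_comm hc (inv_mem hs')]
        _ = d := by rw [hd]; group
    exact (mul_inv_eq_iff_eq_mul.mp e2).symm
  have h1 := fix_trick (w := s) hodd (hTwo d hdS) (hT d hdS hdu) (by rw [hd]; group)
  exact (mul_inv_eq_iff_eq_mul.mp (mul_inv_eq_one.mp h1)).symm

/-- Every coset of the four-group in `S` outside it is a conjugacy class of `S`. -/
theorem coset_conj (h : Conf S) {u v : G} (hu : u ∈ (S : Subgroup G)) (huV : u ∉ four S)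
    (hv : v ∈ (S : Subgroup G)) (hd : v * u⁻¹ ∈ four S) : ∃ t ∈ (S : Subgroup G), t * u * t⁻¹ = v := by
  have huc : (⟨u, hu⟩ : (S : Subgroup G)) ∉ center (S : Subgroup G) := fun e => huV ((h.center_iff _).mp e)
  obtain ⟨t, ht⟩ := h.hs.surj _ huc ⟨v * u⁻¹, mul_mem hv (inv_mem hu)⟩ ((h.center_iff _).mpr hd)
  rw [h.hs.comm_symm] at ht
  · refine ⟨t, t.2, ?_⟩
    have e : (t : G) * u * (t : G)⁻¹ * u⁻¹ = v * u⁻¹ := congrArg Subtype.val ht
    exact mul_right_cancel e

end Conf

end CfsgLib.U34Char
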