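import Cfsg.Agent.Lib.U34Char.Order.Main
import Cfsg.Agent.Lib.U34Recog.Main

/-!
# A simple group with a Sylow `2`-subgroup of type `U₃(4)` is `PSU(3,4)`
-/

set_option autoImplicit false
set_option linter.style.haveILetI false

namespace CfsgLib.U34Char

universe u v

/-- A finite simple group with a Sylow `2`-subgroup of type `U₃(4)` is `PSU(3,4)`. -/
theorem iso {G : Type u} [Group G] [Finite G] [IsSimpleGroup G] (S : Sylow 2 G)
    (hs : CfsgLib.SuzukiTwo.Sixty (S : Subgroup G)) {F : Type v} [Field F] [Fintype F]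
    (hF : Fintype.card F = 16) : Nonempty (G ≃* Cfsg.PSU 3 F 4) := by
  haveI := Fintype.ofFinite G
  have hconf : Conf S := ⟨‹IsSimpleGroup G›, hs⟩
  obtain ⟨f, hf, hcore⟩ := hconf.exists_five
  have h : Triv S f := ⟨hconf, hf, hcore⟩
  refine CfsgLib.U34Recog.iso S hs h.card_eq h.card_normalizer h.cent_sylow_le ?_ hF
  intro g hg x hx hgx
  by_contra hx1
  exact hg (h.ti hx hx1 hgx)

end CfsgLib.U34Char
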