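import Cfsg.Agent.Lib.U34Char.Cert
import Mathlib.Algebra.BigOperators.Fin
import Mathlib.Algebra.Order.BigOperators.Ring.Finset
import Mathlib.Data.Fintype.Pi
import Mathlib.Tactic.FinCases
import Mathlib.Tactic.LinearCombination
import Mathlib.Tactic.IntervalCases
import Mathlib.GroupTheory.Perm.Basic

/-!
# The table of the principal block columns is impossible

`a` and `b₀, …, b₄` are the integer combinations of the averaged columns, `D` the degree, `d` the
dimension of the fixed points of the core, `σ` a Galois automorphism permuting `b₁, b₃, b₄, b₂`.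
-/

namespace CfsgLib.U34Char

open Finset

/-- the value at the involution -/
def tz (a b0 C : ℤ) : ℤ := -5 * a - 4 * (b0 + C)

/-- the properties of the table -/
structure Table (I : Type*) [Fintype I] where
  e : I
  a : I → ℤ
  b : Fin 5 → I → ℤ
  D : I → ℤ
  d : I → ℤ
  σ : Equiv.Perm I
  ae : a e = -1
  be : ∀ k, b k e = if k = 0 then 1 else 0
  De : D e = 1
  σe : σ e = e
  σa : ∀ i, a (σ i) = a i
  σD : ∀ i, D (σ i) = D i
  σb0 : ∀ i, b 0 (σ i) = b 0 i
  σb1 : ∀ i, b 1 (σ i) = b 3 i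
  σb3 : ∀ i, b 3 (σ i) = b 4 i
  σb4 : ∀ i, b 4 (σ i) = b 2 i
  σb2 : ∀ i, b 2 (σ i) = b 1 i
  aa : ∑ i, a i * a i = 16
  bb : ∀ k, ∑ i, b k i * b k i = 5
  bk : ∀ k l, k ≠ l → ∑ i, b k i * b l i = 1
  ab : ∀ k, ∑ i, a i * b k i = -4
  adeg : ∑ i, a i * D i = 0
  bdeg : ∀ k, ∑ i, b k i * D i = 0
  bound : ∀ i, i ≠ e → (a i ≠ 0 ∨ ∃ k, b k i ≠ 0) →
    let z := tz (a i) (b 0 i) (b 1 i + b 3 i + b 4 i + b 2 i)
    0 ≤ d i ∧ d i + 64 ≤ D i ∧ 64 ∣ D i - d i ∧ 0 ≤ d i - z ∧ 0 ≤ d i + z ∧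
      0 ≤ d i + 3 * z + 4 * a i ∧ 0 ≤ d i + 3 * z - 60 * a i ∧ 64 ∣ d i + 3 * z - 60 * a i
  asq : ∑ i, (a i : ℚ) * (tz (a i) (b 0 i) (b 1 i + b 3 i + b 4 i + b 2 i) : ℚ) ^ 2 / D i = 0
  bsq : ∀ k, ∑ i, ((b k i : ℚ) - b 0 i) * (tz (a i) (b 0 i) (b 1 i + b 3 i + b 4 i + b 2 i) : ℚ) ^ 2 / D i = 0
  neg : ∑ i, (b 0 i : ℚ) * (tz (a i) (b 0 i) (b 1 i + b 3 i + b 4 i + b 2 i) : ℚ) ^ 2 / D i < 0

abbrev Vec := ℤ × ℤ × ℤ × ℤ

def rot (w : Vec) : Vec := (w.2.1, w.2.2.1, w.2.2.2, w.1)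

def per (w : Vec) : ℕ :=
  if w.1 = w.2.1 ∧ w.2.1 = w.2.2.1 ∧ w.2.2.1 = w.2.2.2 then 1
  else if w.1 = w.2.2.1 ∧ w.2.1 = w.2.2.2 then 2 else 4

def vkey (w : Vec) : ℤ := 125 * w.1 + 25 * w.2.1 + 5 * w.2.2.1 + w.2.2.2

/-- the chosen rotation -/
def canon (w : Vec) : Bool :=
  (List.range (per w)).all fun t => decide (vkey w ≤ vkey (rot^[t] w))

/-- the row of a vector -/
def mkRep (b0 a : ℤ) (w : Vec) : Cert.Rep :=
  ⟨(per w : ℤ), b0, a, w.1 + w.2.1 + w.2.2.1 + w.2.2.2,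
    w.1 * w.1 + w.2.1 * w.2.1 + w.2.2.1 * w.2.2.1 + w.2.2.2 * w.2.2.2, w.1 * w.2.2.1 + w.2.1 * w.2.2.2⟩

def box : List ℤ := [-2, -1, 0, 1, 2]

theorem mem_box {x : ℤ} (h : x * x ≤ 5) : x ∈ box := by
  have h1 : -2 ≤ x := by nlinarith
  have h2 : x ≤ 2 := by nlinarith
  interval_cases x <;> simp [box]

theorem per_rot : ∀ w : Vec, per (rot w) = per w := by
  intro w
  unfold per rot
  dsimp only
  split_ifs <;> first | rfl | omega

theorem rot_per : ∀ w : Vec, rot^[per w] w = w := by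
  rintro ⟨a, b, c, e⟩
  unfold per
  dsimp only
  split_ifs with h1 h2
  · obtain ⟨rfl, rfl, rfl⟩ := h1; rfl
  · obtain ⟨rfl, rfl⟩ := h2; rfl
  · rfl

theorem canon_count_box : ∀ x ∈ box, ∀ y ∈ box, ∀ u ∈ box, ∀ v ∈ box,
    ((List.range 4).map fun t => if t < per (x, y, u, v) ∧ canon (rot^[t] (x, y, u, v)) = true then 1 else 0).sum = 1 := by
  decide +kernel

set_option synthInstance.maxSize 4000 in
set_option maxRecDepth 4000 in
theorem reps_box : ∀ b0 ∈ ([0, 1] : List ℤ), ∀ a ∈ ([-3, -2, -1, 0, 1, 2, 3] : List ℤ),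
    ∀ x ∈ box, ∀ y ∈ box, ∀ u ∈ box, ∀ v ∈ box,
    (b0 = 0 → a < 0 ∨ (a = 0 ∧ x + y + u + v ≤ 0)) →
    (b0 ≠ 0 ∨ a ≠ 0 ∨ x ≠ 0 ∨ y ≠ 0 ∨ u ≠ 0 ∨ v ≠ 0) →
    ((mkRep b0 a (x, y, u, v)).feat.aa ≤ 15 ∧ (mkRep b0 a (x, y, u, v)).feat.bb ≤ 4 ∧
      (mkRep b0 a (x, y, u, v)).feat.cc ≤ 32 ∧ (mkRep b0 a (x, y, u, v)).feat.qq ≤ 20 ∧
      (mkRep b0 a (x, y, u, v)).feat.ee ≤ 15) →
    mkRep b0 a (x, y, u, v) ∈ Cert.repsOne ++ Cert.repsZero := by
  decide +kernel

namespace Table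

variable {I : Type*} [Fintype I] (T : Table I)

def C (i : I) : ℤ := T.b 1 i + T.b 3 i + T.b 4 i + T.b 2 i

/-- the sign making `b₀ = 1`, or a normal form if `b₀ = 0` -/
def sg (i : I) : ℤ :=
  if 0 < T.b 0 i ∨ (T.b 0 i = 0 ∧ (T.a i < 0 ∨ (T.a i = 0 ∧ T.C i ≤ 0))) then 1 else -1

def vec (i : I) : Vec := (T.sg i * T.b 1 i, T.sg i * T.b 3 i, T.sg i * T.b 4 i, T.sg i * T.b 2 i)

def rep (i : I) : Cert.Rep := mkRep (T.sg i * T.b 0 i) (T.sg i * T.a i) (T.vec i)

theorem C_σ (i : I) : T.C (T.σ i) = T.C i := by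
  simp only [C, T.σb1, T.σb2, T.σb3, T.σb4]; ring

theorem sg_σ (i : I) : T.sg (T.σ i) = T.sg i := by simp only [sg, T.σb0, T.σa, T.C_σ]

theorem sg_sq (i : I) : T.sg i = 1 ∨ T.sg i = -1 := by unfold sg; split <;> simp

theorem sg_mul (i : I) (x y : ℤ) : T.sg i * x * (T.sg i * y) = x * y := by
  rcases T.sg_sq i with h | h <;> rw [h] <;> ring

theorem vec_σ (i : I) : T.vec (T.σ i) = rot (T.vec i) := by
  simp only [vec, rot, T.sg_σ, T.σb1, T.σb2, T.σb3, T.σb4]

/-- the nonzero rows other than the trivial one -/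
def Mem (i : I) : Prop := i ≠ T.e ∧ (T.a i ≠ 0 ∨ ∃ k, T.b k i ≠ 0)

theorem mem_σ (i : I) : T.Mem (T.σ i) ↔ T.Mem i := by
  unfold Mem
  refine and_congr ⟨fun h e => h (e ▸ T.σe), fun h e => h (T.σ.injective (e.trans T.σe.symm))⟩
    (or_congr (by rw [T.σa]) ?_)
  constructor
  · rintro ⟨k, hk⟩
    fin_cases k
    · exact ⟨0, T.σb0 i ▸ hk⟩
    · exact ⟨3, T.σb1 i ▸ hk⟩
    · exact ⟨1, T.σb2 i ▸ hk⟩
    · exact ⟨4, T.σb3 i ▸ hk⟩
    · exact ⟨2, T.σb4 i ▸ hk⟩
  · rintro ⟨k, hk⟩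
    fin_cases k
    · exact ⟨0, by rw [T.σb0]; exact hk⟩
    · exact ⟨2, by rw [T.σb2]; exact hk⟩
    · exact ⟨4, by rw [T.σb4]; exact hk⟩
    · exact ⟨1, by rw [T.σb1]; exact hk⟩
    · exact ⟨3, by rw [T.σb3]; exact hk⟩

open Classical in
noncomputable def memSet : Finset I := univ.filter fun i => T.Mem i

theorem mem_memSet {i : I} : i ∈ T.memSet ↔ T.Mem i := by classical simp [memSet]

theorem b_sq_le (k : Fin 5) (i : I) : T.b k i * T.b k i ≤ 5 :=
  T.bb k ▸ single_le_sum (f := fun i => T.b k i * T.b k i) (fun j _ => mul_self_nonneg _) (mem_univ i)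

theorem a_sq_le {i : I} (hi : i ≠ T.e) : T.a i * T.a i ≤ 15 := by
  classical
  have h := sum_le_sum_of_subset_of_nonneg (f := fun i => T.a i * T.a i) (subset_univ {T.e, i})
    fun j _ _ => mul_self_nonneg _
  rw [sum_pair hi.symm, T.aa, T.ae] at h
  omega

theorem vec_box (i : I) :
    (T.vec i).1 ∈ box ∧ (T.vec i).2.1 ∈ box ∧ (T.vec i).2.2.1 ∈ box ∧ (T.vec i).2.2.2 ∈ box := by
  simp only [vec]
  exact ⟨mem_box (by rw [T.sg_mul]; exact T.b_sq_le _ _), mem_box (by rw [T.sg_mul]; exact T.b_sq_le _ _),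
    mem_box (by rw [T.sg_mul]; exact T.b_sq_le _ _), mem_box (by rw [T.sg_mul]; exact T.b_sq_le _ _)⟩

theorem vec_iterate (i : I) (t : ℕ) : T.vec ((T.σ ^ t) i) = rot^[t] (T.vec i) := by
  induction t with
  | zero => rfl
  | succ t ih => rw [pow_succ', Equiv.Perm.mul_apply, T.vec_σ, ih, Function.iterate_succ_apply']

theorem mem_iterate (i : I) (t : ℕ) : T.Mem ((T.σ ^ t) i) ↔ T.Mem i := by
  induction t with
  | zero => rfl
  | succ t ih => rw [pow_succ', Equiv.Perm.mul_apply, T.mem_σ, ih]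

theorem inv_iterate {M : Type*} (F : I → M) (hF : ∀ i, F (T.σ i) = F i) (i : I) (t : ℕ) :
    F ((T.σ ^ t) i) = F i := by
  induction t with
  | zero => rfl
  | succ t ih => rw [pow_succ', Equiv.Perm.mul_apply, hF, ih]

open Classical in
noncomputable def reprSet : Finset I := T.memSet.filter fun i => canon (T.vec i) = true

theorem sum_repr {M : Type*} [CommRing M] (F : I → M) (hF : ∀ i, F (T.σ i) = F i) :
    ∑ i ∈ T.reprSet, (per (T.vec i) : M) * F i = ∑ i ∈ T.memSet, F i := by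
  classical
  have h1 : ∀ i, (1 : M) = ∑ t ∈ range 4, if t < per (T.vec i) ∧ canon (rot^[t] (T.vec i)) = true then 1 else 0 := by
    intro i
    obtain ⟨hx, hy, hu, hv⟩ := T.vec_box i
    have h := canon_count_box _ hx _ hy _ hu _ hv
    have h2 : ∑ t ∈ range 4, (if t < per (T.vec i) ∧ canon (rot^[t] (T.vec i)) = true then (1 : ℕ) else 0) = 1 := h
    calc (1 : M) = ((1 : ℕ) : M) := Nat.cast_one.symm
      _ = _ := by rw [← h2, Nat.cast_sum]; exact sum_congr rfl fun t _ => by split <;> simp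
  have hper : ∀ (w : Vec) (t : ℕ), per (rot^[t] w) = per w := by
    intro w t
    induction t with
    | zero => rfl
    | succ t ih => rw [Function.iterate_succ_apply', per_rot, ih]
  symm
  calc ∑ i ∈ T.memSet, F i
      = ∑ i ∈ T.memSet, ∑ t ∈ range 4,
          (if t < per (T.vec ((T.σ ^ t) i)) ∧ canon (T.vec ((T.σ ^ t) i)) = true then F ((T.σ ^ t) i) else 0) := by
        refine sum_congr rfl fun i _ => ?_
        conv_lhs => rw [← one_mul (F i), h1 i, sum_mul]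
        refine sum_congr rfl fun t _ => ?_
        rw [T.vec_iterate, T.inv_iterate F hF, hper, ite_mul, one_mul, zero_mul]
    _ = ∑ t ∈ range 4, ∑ j ∈ T.memSet,
          (if t < per (T.vec j) ∧ canon (T.vec j) = true then F j else 0) := by
        rw [sum_comm]
        refine sum_congr rfl fun t _ => ?_
        refine sum_equiv (T.σ ^ t) (fun i => ?_) fun i _ => rfl
        rw [T.mem_memSet, T.mem_memSet, T.mem_iterate]
    _ = ∑ j ∈ T.memSet, ∑ t ∈ range 4,
          (if t < per (T.vec j) ∧ canon (T.vec j) = true then F j else 0) := sum_comm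
    _ = ∑ i ∈ T.reprSet, (per (T.vec i) : M) * F i := by
        rw [reprSet, sum_filter]
        refine sum_congr rfl fun j _ => ?_
        by_cases hc : canon (T.vec j) = true
        · simp only [hc, and_true, if_true]
          rw [← sum_filter, sum_const, nsmul_eq_mul]
          congr 2
          have hp : per (T.vec j) = 1 ∨ per (T.vec j) = 2 ∨ per (T.vec j) = 4 := by
            unfold per; split_ifs <;> simp
          rcases hp with hp | hp | hp <;> rw [hp] <;> decide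
        · simp [hc]

theorem sum_mem {M : Type*} [CommRing M] (F : I → M) (h0 : ∀ i, i ≠ T.e → ¬ T.Mem i → F i = 0) :
    F T.e + ∑ i ∈ T.memSet, F i = ∑ i, F i := by
  classical
  rw [← add_sum_erase univ F (mem_univ T.e)]
  congr 1
  refine sum_subset (fun i hi => mem_erase.mpr ⟨(T.mem_memSet.mp hi).1, mem_univ _⟩) fun i hi hn => ?_
  exact h0 i (mem_erase.mp hi).1 fun h => hn (T.mem_memSet.mpr h)

theorem not_mem {i : I} (hi : i ≠ T.e) (h : ¬ T.Mem i) : T.a i = 0 ∧ ∀ k, T.b k i = 0 := by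
  constructor
  · by_contra hc; exact h ⟨hi, Or.inl hc⟩
  · intro k; by_contra hc; exact h ⟨hi, Or.inr ⟨k, hc⟩⟩

theorem sum_CC : ∑ j, T.C j * T.C j = 32 := by
  simp only [C, mul_add, add_mul, sum_add_distrib]
  simp only [T.bb, T.bk 1 3 (by decide), T.bk 1 4 (by decide), T.bk 1 2 (by decide), T.bk 3 1 (by decide),
    T.bk 3 4 (by decide), T.bk 3 2 (by decide), T.bk 4 1 (by decide), T.bk 4 3 (by decide),
    T.bk 4 2 (by decide), T.bk 2 1 (by decide), T.bk 2 3 (by decide), T.bk 2 4 (by decide)]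
  norm_num

theorem sum_AC : ∑ j, T.a j * T.C j = -16 := by
  simp only [C, mul_add, sum_add_distrib, T.ab]; norm_num

theorem sum_EE : ∑ j, (T.a j + T.C j) * (T.a j + T.C j) = 16 := by
  have h2 : ∑ j, (T.a j + T.C j) * (T.a j + T.C j) =
      ∑ j, T.a j * T.a j + ∑ j, T.a j * T.C j + (∑ j, T.a j * T.C j + ∑ j, T.C j * T.C j) := by
    simp only [← sum_add_distrib]
    exact sum_congr rfl fun j _ => by ring
  rw [h2, T.aa, T.sum_AC, T.sum_CC]; norm_num

theorem z_rep (i : I) : tz (T.a i) (T.b 0 i) (T.C i) = T.sg i * (T.rep i).z := by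
  simp only [rep, mkRep, vec, Cert.Rep.z, tz, C]
  rcases T.sg_sq i with h | h <;> rw [h] <;> ring

/-- sums over the representatives of invariant functions -/
theorem total (F : I → ℤ) (hF : ∀ i, F (T.σ i) = F i) (h0 : ∀ i, i ≠ T.e → ¬ T.Mem i → F i = 0)
    {tgt : ℤ} (h : ∑ i, F i = tgt) (g : Cert.Rep → ℤ)
    (hg : ∀ i, g (T.rep i) = (per (T.vec i) : ℤ) * F i) :
    ∑ i ∈ T.reprSet, g (T.rep i) = tgt - F T.e := by
  rw [sum_congr rfl fun i _ => hg i, T.sum_repr F hF, ← h, ← T.sum_mem F h0]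
  ring

theorem adm {i : I} (hi : T.Mem i) : (T.rep i).Adm (T.sg i * T.D i) := by
  obtain ⟨d0, dD, d64, h1, h2, h3, h4, h5⟩ := T.bound i hi.1 hi.2
  have hb : ∀ ε : ℤ, ε = T.sg i → (T.rep i).low ε ≤ T.D i ∧ (T.D i - (T.rep i).low ε) % 64 = 0 := by
    rintro ε rfl
    have hz : T.sg i * (T.rep i).z = tz (T.a i) (T.b 0 i) (T.b 1 i + T.b 3 i + T.b 4 i + T.b 2 i) :=
      (T.z_rep i).symm
    have ha : T.sg i * (T.rep i).a = T.a i := by
      show T.sg i * (T.sg i * T.a i) = T.a i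
      rcases T.sg_sq i with h | h <;> rw [h] <;> ring
    have hr : (T.rep i).res (T.sg i) =
        75 * T.a i + 12 * (T.b 0 i + (T.b 1 i + T.b 3 i + T.b 4 i + T.b 2 i)) := by
      show T.sg i * (75 * (T.sg i * T.a i) + 12 * (T.sg i * T.b 0 i +
        (T.sg i * T.b 1 i + T.sg i * T.b 3 i + T.sg i * T.b 4 i + T.sg i * T.b 2 i))) = _
      rcases T.sg_sq i with h | h <;> rw [h] <;> ring
    simp only [tz] at h1 h2 h3 h4 h5
    simp only [Cert.Rep.low, Cert.Rep.need, hr, hz, ha, tz]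
    omega
  rcases T.sg_sq i with h | h
  · left
    obtain ⟨e1, e2⟩ := hb 1 h.symm
    rw [h, one_mul]
    exact ⟨by omega, e1, e2⟩
  · right
    obtain ⟨e1, e2⟩ := hb (-1) h.symm
    rw [h]
    exact ⟨by omega, by omega, by omega⟩

theorem b0_sum_sq : ∑ i ∈ T.memSet, T.b 0 i * T.b 0 i = 4 := by
  have := T.sum_mem (fun i => T.b 0 i * T.b 0 i) (fun i hi h => by simp [(T.not_mem hi h).2 0])
  rw [T.bb 0, T.be 0] at this
  simpa using eq_sub_of_add_eq' this

/-- `b₀` takes only the values `0, ±1` outside the trivial row -/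
theorem b0_le {i : I} (hi : T.Mem i) : T.b 0 i * T.b 0 i ≤ 1 := by
  classical
  by_contra hc
  have hs := T.b0_sum_sq
  have him := T.mem_memSet.mpr hi
  rw [← add_sum_erase _ _ him] at hs
  have hnn : 0 ≤ ∑ j ∈ T.memSet.erase i, T.b 0 j * T.b 0 j := sum_nonneg fun j _ => mul_self_nonneg _
  have h1 : -2 ≤ T.b 0 i := by nlinarith
  have h2 : T.b 0 i ≤ 2 := by nlinarith
  have h4 : T.b 0 i * T.b 0 i = 4 := by
    interval_cases (T.b 0 i) <;> simp_all
  have hz : ∀ j ∈ T.memSet.erase i, T.b 0 j = 0 := fun j hj =>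
    mul_self_eq_zero.mp ((sum_eq_zero_iff_of_nonneg fun j _ => mul_self_nonneg _).mp (by omega) j hj)
  have hd := T.sum_mem (fun j => T.b 0 j * T.D j) (fun j hj h => by simp [(T.not_mem hj h).2 0])
  rw [T.bdeg 0, T.be 0, T.De, ← add_sum_erase _ _ him,
    sum_eq_zero fun j hj => by simp [hz j hj]] at hd
  simp only [if_pos, mul_one, add_zero] at hd
  have : T.b 0 i = 2 ∨ T.b 0 i = -2 := by interval_cases (T.b 0 i) <;> simp_all
  rcases this with e | e <;> rw [e] at hd <;> omega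

theorem rep_mem {i : I} (hi : i ∈ T.reprSet) : T.rep i ∈ Cert.repsOne ++ Cert.repsZero := by
  classical
  have hM : T.Mem i := T.mem_memSet.mp (mem_filter.mp hi).1
  obtain ⟨hx, hy, hu, hv⟩ := T.vec_box i
  have hb := T.b0_le hM
  have hs : T.sg i * T.b 0 i = 1 ∨ T.sg i * T.b 0 i = 0 := by
    have h1 : -1 ≤ T.b 0 i := by nlinarith
    have h2 : T.b 0 i ≤ 1 := by nlinarith
    unfold sg; split_ifs with h <;> omega
  have ha : -3 ≤ T.a i ∧ T.a i ≤ 3 := by
    have := T.a_sq_le hM.1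
    constructor <;> nlinarith
  have hle : ∀ (F : I → ℤ) (g : Cert.Rep → ℤ) (tgt : ℤ), (∀ j, F (T.σ j) = F j) →
      (∀ j, j ≠ T.e → ¬ T.Mem j → F j = 0) → (∀ j, 0 ≤ F j) → ∑ j, F j = tgt →
      (∀ j, g (T.rep j) = (per (T.vec j) : ℤ) * F j) → g (T.rep i) ≤ tgt - F T.e := by
    intro F g tgt h1 h2 h3 h4 h5
    rw [← T.total F h1 h2 h4 g h5]
    exact single_le_sum (f := fun j => g (T.rep j))
      (fun j _ => by rw [h5]; exact mul_nonneg (Int.natCast_nonneg _) (h3 j)) hi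
  refine reps_box _ ?_ _ ?_ _ hx _ hy _ hu _ hv ?_ ?_ ⟨?_, ?_, ?_, ?_, ?_⟩
  · rcases hs with h | h <;> simp [h]
  · have : -3 ≤ T.sg i * T.a i ∧ T.sg i * T.a i ≤ 3 := by
      rcases T.sg_sq i with h | h <;> rw [h] <;> omega
    obtain ⟨h1, h2⟩ := this
    interval_cases (T.sg i * T.a i) <;> simp
  · intro h0
    have hb0 : T.b 0 i = 0 := by rcases T.sg_sq i with h | h <;> rw [h] at h0 <;> omega
    simp only [vec, sg, hb0, C]
    split_ifs with h <;> (simp only [true_and, lt_self_iff_false, false_or, one_mul, neg_one_mul] at h ⊢; omega)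
  · rcases hM.2 with h | ⟨k, hk⟩
    · right; left; rcases T.sg_sq i with e | e <;> rw [e] <;> omega
    · rcases T.sg_sq i with e | e <;> fin_cases k <;> simp_all [vec] <;> omega
  · refine (hle (fun j => T.a j * T.a j) (fun r => r.feat.aa) 16 (fun j => by rw [T.σa])
      (fun j hj h => by simp [(T.not_mem hj h).1]) (fun j => mul_self_nonneg _) T.aa
      (fun j => by simp only [Cert.Rep.feat, rep, mkRep, mul_assoc, T.sg_mul])).trans ?_
    rw [T.ae]; norm_num
  · refine (hle (fun j => T.b 0 j * T.b 0 j) (fun r => r.feat.bb) 5 (fun j => by rw [T.σb0])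
      (fun j hj h => by simp [(T.not_mem hj h).2 0]) (fun j => mul_self_nonneg _) (T.bb 0)
      (fun j => by simp only [Cert.Rep.feat, rep, mkRep, mul_assoc, T.sg_mul])).trans ?_
    rw [T.be 0]; norm_num
  · refine (hle (fun j => T.C j * T.C j) (fun r => r.feat.cc) 32 (fun j => by rw [T.C_σ])
      (fun j hj h => by simp [C, (T.not_mem hj h).2]) (fun j => mul_self_nonneg _) T.sum_CC
      (fun j => ?_)).trans ?_
    · simp only [Cert.Rep.feat, rep, mkRep, vec, mul_assoc]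
      rcases T.sg_sq j with e | e <;> rw [e] <;> simp only [C] <;> ring
    · simp [C, T.be]
  · refine (hle (fun j => T.b 1 j * T.b 1 j + T.b 3 j * T.b 3 j + T.b 4 j * T.b 4 j + T.b 2 j * T.b 2 j)
      (fun r => r.feat.qq) 20 (fun j => by rw [T.σb1, T.σb2, T.σb3, T.σb4]; ring)
      (fun j hj h => by simp [(T.not_mem hj h).2]) (fun j => by nlinarith [mul_self_nonneg (T.b 1 j), mul_self_nonneg (T.b 2 j), mul_self_nonneg (T.b 3 j), mul_self_nonneg (T.b 4 j)])
      (by simp only [sum_add_distrib, T.bb]; norm_num)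
      (fun j => by simp only [Cert.Rep.feat, rep, mkRep, vec, T.sg_mul])).trans ?_
    simp [T.be]
  · refine (hle (fun j => (T.a j + T.C j) * (T.a j + T.C j)) (fun r => r.feat.ee) 16
      (fun j => by rw [T.σa, T.C_σ])
      (fun j hj h => by simp [C, (T.not_mem hj h).2, (T.not_mem hj h).1]) (fun j => mul_self_nonneg _)
      T.sum_EE (fun j => ?_)).trans ?_
    · simp only [Cert.Rep.feat, rep, mkRep, vec, mul_assoc]
      rcases T.sg_sq j with e | e <;> rw [e] <;> simp only [C] <;> ring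
    · simp [C, T.be, T.ae]

/-- There is no such table. -/
theorem false (T : Table I) : False := by
  classical
  let L := T.reprSet.toList
  let M : List (Cert.Rep × ℤ) := L.map fun i => (T.rep i, T.sg i * T.D i)
  have hmemL : ∀ {i}, i ∈ L → i ∈ T.reprSet := fun h => mem_toList.mp h
  have hz : ∀ g : Cert.Rep → ℤ → ℤ,
      (M.map fun e => g e.1 e.2).sum = ∑ i ∈ T.reprSet, g (T.rep i) (T.sg i * T.D i) := fun g => by
    rw [List.map_map]; exact Finset.sum_map_toList _ _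
  have hq : ∀ g : Cert.Rep → ℤ → ℚ,
      (M.map fun e => g e.1 e.2).sum = ∑ i ∈ T.reprSet, g (T.rep i) (T.sg i * T.D i) := fun g => by
    rw [List.map_map]; exact Finset.sum_map_toList _ _
  have hDne : ∀ i ∈ T.reprSet, T.D i ≠ 0 := fun i hi => by
    have hM := T.mem_memSet.mp (mem_filter.mp hi).1
    obtain ⟨d0, dD, -⟩ := T.bound i hM.1 hM.2
    omega
  have wsum : ∀ (F : I → ℤ) (c : Cert.Rep → ℤ), (∀ i, F (T.σ i) = F i) →
      (∀ i, i ≠ T.e → ¬ T.Mem i → F i = 0) →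
      (∀ i, c (T.rep i) = (per (T.vec i) : ℤ) * (T.sg i * F i) * ((T.rep i).z * (T.rep i).z)) →
      (M.map fun e => (c e.1 : ℚ) / (e.2 : ℚ)).sum +
          (F T.e : ℚ) * (tz (T.a T.e) (T.b 0 T.e) (T.C T.e) : ℚ) ^ 2 / T.D T.e =
        ∑ i, (F i : ℚ) * (tz (T.a i) (T.b 0 i) (T.C i) : ℚ) ^ 2 / T.D i := by
    intro F c h1 h2 h3
    set G : I → ℚ := fun i => (F i : ℚ) * (tz (T.a i) (T.b 0 i) (T.C i) : ℚ) ^ 2 / T.D i with hG
    rw [hq (fun r x => (c r : ℚ) / (x : ℚ)), ← T.sum_mem G (fun i hi h => by simp [hG, h2 i hi h]),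
      ← T.sum_repr G (fun i => by simp only [hG, h1, T.σa, T.σb0, T.C_σ, T.σD]), add_comm]
    congr 1
    refine sum_congr rfl fun i hi => ?_
    have hD : (T.D i : ℚ) ≠ 0 := Int.cast_ne_zero.mpr (hDne i hi)
    simp only [hG]
    rw [h3 i, T.z_rep i]
    rcases T.sg_sq i with e | e <;> rw [e] <;> push_cast <;> field_simp
  have lsum : ∀ (F : I → ℤ) (m : Cert.Rep → ℤ), (∀ i, F (T.σ i) = F i) →
      (∀ i, i ≠ T.e → ¬ T.Mem i → F i = 0) →
      (∀ i, m (T.rep i) = (per (T.vec i) : ℤ) * (T.sg i * F i)) →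
      (M.map fun e => m e.1 * e.2).sum + F T.e * T.D T.e = ∑ i, F i * T.D i := by
    intro F m h1 h2 h3
    rw [hz (fun r x => m r * x), ← T.sum_mem (fun i => F i * T.D i) (fun i hi h => by simp [h2 i hi h]),
      ← T.sum_repr (fun i => F i * T.D i) (fun i => by rw [h1, T.σD]), add_comm]
    congr 1
    refine sum_congr rfl fun i _ => ?_
    rw [h3 i]
    rcases T.sg_sq i with e | e <;> rw [e] <;> ring
  have n0 : ∀ {i}, i ≠ T.e → ¬ T.Mem i → T.C i = 0 := fun hi h => by simp [C, (T.not_mem hi h).2]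
  have hCe : T.C T.e = 0 := by simp [C, T.be]
  have hbe : T.b 0 T.e = 1 := by simp [T.be]
  have ftot : ∀ (F : I → ℤ) (g : Cert.Rep → ℤ) (tgt v : ℤ), (∀ i, F (T.σ i) = F i) →
      (∀ i, i ≠ T.e → ¬ T.Mem i → F i = 0) → ∑ i, F i = tgt →
      (∀ i, g (T.rep i) = (per (T.vec i) : ℤ) * F i) → tgt - F T.e = v →
      ((M.map Prod.fst).map g).sum = v := by
    intro F g tgt v h1 h2 h3 h4 h5
    rw [List.map_map, ← h5, ← T.total F h1 h2 h3 g h4]
    exact hz (fun r _ => g r)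
  refine Cert.no_table M ?_ ?_ ⟨?_, ?_, ?_, ?_, ?_, ?_, ?_, ?_, ?_⟩ ?_ ?_ ?_ ?_ ?_ ?_
  · intro e he
    obtain ⟨i, hi, rfl⟩ := List.mem_map.mp he
    exact T.rep_mem (hmemL hi)
  · intro e he
    obtain ⟨i, hi, rfl⟩ := List.mem_map.mp he
    exact T.adm (T.mem_memSet.mp (mem_filter.mp (hmemL hi)).1)
  · exact ftot (fun i => T.b 0 i * T.b 0 i) _ 5 _ (fun i => by rw [T.σb0])
      (fun i hi h => by simp [(T.not_mem hi h).2 0]) (T.bb 0)
      (fun i => by simp only [Cert.Rep.feat, rep, mkRep, mul_assoc, T.sg_mul])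
      (by simp [hbe, Cert.target])
  · exact ftot (fun i => T.a i * T.a i) _ 16 _ (fun i => by rw [T.σa])
      (fun i hi h => by simp [(T.not_mem hi h).1]) T.aa
      (fun i => by simp only [Cert.Rep.feat, rep, mkRep, mul_assoc, T.sg_mul])
      (by simp [T.ae, Cert.target])
  · exact ftot (fun i => T.C i * T.C i) _ 32 _ (fun i => by rw [T.C_σ])
      (fun i hi h => by simp [n0 hi h]) T.sum_CC
      (fun i => by
        simp only [Cert.Rep.feat, rep, mkRep, vec]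
        rcases T.sg_sq i with e | e <;> rw [e] <;> simp only [C] <;> ring)
      (by simp [hCe, Cert.target])
  · exact ftot (fun j => T.b 1 j * T.b 1 j + T.b 3 j * T.b 3 j + T.b 4 j * T.b 4 j + T.b 2 j * T.b 2 j) _ 20 _
      (fun j => by rw [T.σb1, T.σb2, T.σb3, T.σb4]; ring) (fun j hj h => by simp [(T.not_mem hj h).2])
      (by simp only [sum_add_distrib, T.bb]; norm_num)
      (fun j => by simp only [Cert.Rep.feat, rep, mkRep, vec, T.sg_mul])
      (by simp [T.be, Cert.target])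
  · exact ftot (fun i => (T.a i + T.C i) * (T.a i + T.C i)) _ 16 _ (fun i => by rw [T.σa, T.C_σ])
      (fun i hi h => by simp [n0 hi h, (T.not_mem hi h).1]) T.sum_EE
      (fun i => by
        simp only [Cert.Rep.feat, rep, mkRep, vec]
        rcases T.sg_sq i with e | e <;> rw [e] <;> simp only [C] <;> ring)
      (by simp [hCe, T.ae, Cert.target])
  · exact ftot (fun i => T.a i * T.b 0 i) _ (-4) _ (fun i => by rw [T.σa, T.σb0])
      (fun i hi h => by simp [(T.not_mem hi h).1]) (T.ab 0)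
      (fun i => by simp only [Cert.Rep.feat, rep, mkRep, mul_assoc, T.sg_mul])
      (by simp [hbe, T.ae, Cert.target])
  · exact ftot (fun i => T.b 0 i * T.C i) _ 4 _ (fun i => by rw [T.σb0, T.C_σ])
      (fun i hi h => by simp [n0 hi h])
      (by
        simp only [C, mul_add, sum_add_distrib, T.bk 0 1 (by decide), T.bk 0 2 (by decide),
          T.bk 0 3 (by decide), T.bk 0 4 (by decide)]
        norm_num)
      (fun i => by
        simp only [Cert.Rep.feat, rep, mkRep, vec]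
        rcases T.sg_sq i with e | e <;> rw [e] <;> simp only [C] <;> ring)
      (by simp [hCe, Cert.target])
  · exact ftot (fun i => T.a i * T.C i) _ (-16) _ (fun i => by rw [T.σa, T.C_σ])
      (fun i hi h => by simp [n0 hi h]) T.sum_AC
      (fun i => by
        simp only [Cert.Rep.feat, rep, mkRep, vec]
        rcases T.sg_sq i with e | e <;> rw [e] <;> simp only [C] <;> ring)
      (by simp [hCe, Cert.target])
  · exact ftot (fun j => T.b 1 j * T.b 4 j + T.b 3 j * T.b 2 j) _ 2 _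
      (fun j => by rw [T.σb1, T.σb2, T.σb3, T.σb4]; ring) (fun j hj h => by simp [(T.not_mem hj h).2])
      (by simp only [sum_add_distrib, T.bk 1 4 (by decide), T.bk 3 2 (by decide)]; norm_num)
      (fun j => by simp only [Cert.Rep.feat, rep, mkRep, vec, T.sg_mul])
      (by simp [T.be, Cert.target])
  · have h := wsum T.a Cert.Rep.c1 T.σa (fun i hi h => (T.not_mem hi h).1)
      (fun i => by simp only [Cert.Rep.c1, rep, mkRep, mul_assoc])
    rw [show ∑ i, (T.a i : ℚ) * (tz (T.a i) (T.b 0 i) (T.C i) : ℚ) ^ 2 / T.D i = 0 from T.asq,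
      hbe, hCe, T.ae, T.De] at h
    norm_num [tz] at h ⊢
    linarith
  · have h := wsum (fun i => T.C i - 4 * T.b 0 i) Cert.Rep.c2 (fun i => by rw [T.C_σ, T.σb0])
      (fun i hi h => by simp [n0 hi h, (T.not_mem hi h).2 0])
      (fun i => by
        simp only [Cert.Rep.c2, rep, mkRep, vec]
        rcases T.sg_sq i with e | e <;> rw [e] <;> simp only [C] <;> ring)
    have h0 : ∑ i, ((T.C i - 4 * T.b 0 i : ℤ) : ℚ) * (tz (T.a i) (T.b 0 i) (T.C i) : ℚ) ^ 2 / T.D i = 0 := by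
      have := T.bsq 1; have := T.bsq 3; have := T.bsq 4; have := T.bsq 2
      have e : ∀ i, ((T.C i - 4 * T.b 0 i : ℤ) : ℚ) * (tz (T.a i) (T.b 0 i) (T.C i) : ℚ) ^ 2 / T.D i =
          ((T.b 1 i : ℚ) - T.b 0 i) * (tz (T.a i) (T.b 0 i) (T.C i) : ℚ) ^ 2 / T.D i +
          ((T.b 3 i : ℚ) - T.b 0 i) * (tz (T.a i) (T.b 0 i) (T.C i) : ℚ) ^ 2 / T.D i +
          ((T.b 4 i : ℚ) - T.b 0 i) * (tz (T.a i) (T.b 0 i) (T.C i) : ℚ) ^ 2 / T.D i +
          ((T.b 2 i : ℚ) - T.b 0 i) * (tz (T.a i) (T.b 0 i) (T.C i) : ℚ) ^ 2 / T.D i := fun i => by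
        simp only [C]; push_cast; ring
      rw [sum_congr rfl fun i _ => e i]
      simp only [sum_add_distrib]
      simp only [C]
      linarith
    rw [h0, hbe, hCe, T.ae, T.De] at h
    norm_num [tz] at h ⊢
    linarith
  · have h := wsum (T.b 0) Cert.Rep.c3 T.σb0 (fun i hi h => (T.not_mem hi h).2 0)
      (fun i => by simp only [Cert.Rep.c3, rep, mkRep, mul_assoc])
    have h0 : ∑ i, (T.b 0 i : ℚ) * (tz (T.a i) (T.b 0 i) (T.C i) : ℚ) ^ 2 / T.D i < 0 := T.neg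
    rw [← h, hbe, hCe, T.ae, T.De] at h0
    norm_num [tz] at h0 ⊢
    linarith
  · have h := lsum T.a Cert.Rep.m1 T.σa (fun i hi h => (T.not_mem hi h).1)
      (fun i => by simp only [Cert.Rep.m1, rep, mkRep])
    rw [T.adeg, T.ae, T.De] at h
    omega
  · have h := lsum T.C Cert.Rep.m2 T.C_σ (fun i hi h => n0 hi h)
      (fun i => by
        simp only [Cert.Rep.m2, rep, mkRep, vec]
        rcases T.sg_sq i with e | e <;> rw [e] <;> simp only [C] <;> ring)
    rw [hCe, T.De, show ∑ i, T.C i * T.D i = 0 by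
      simp only [C, add_mul, sum_add_distrib, T.bdeg]; norm_num] at h
    omega
  · have h := lsum (T.b 0) Cert.Rep.m3 T.σb0 (fun i hi h => (T.not_mem hi h).2 0)
      (fun i => by simp only [Cert.Rep.m3, rep, mkRep])
    rw [T.bdeg 0, hbe, T.De] at h
    omega

end Table

end CfsgLib.U34Char
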