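import Cfsg.Agent.Lib.ZCReduction.Basic
import Cfsg.Agent.Lib.PiClosedTwo.Embedded
import Cfsg.Agent.Lib.HallE8.Solvable
import Cfsg.Agent.Lib.PComplement
import Mathlib.GroupTheory.Frattini

/-!
An elementary abelian Sylow `2`-subgroup of order at least eight whose normalizer acts semiregularly and
intransitively on it is normal modulo the odd core.
-/

set_option autoImplicit false
set_option linter.unusedSectionVars false
set_option linter.style.haveILetI false

namespace CfsgLib.U34Char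

open Subgroup Cfsg CfsgLib.HallE8 CfsgLib.ZCReduction

universe u

variable {Q : Type u} [Group Q] [Finite Q]

/-- `g = o s` in a group with a normal `2`-complement. -/
theorem exists_core_mul {C : Type u} [Group C] [Finite C] (h : HasNormalPComplement 2 C) (P : Sylow 2 C) (g : C) :
    ∃ o ∈ pPrimeCore 2 C, ∃ s ∈ (P : Subgroup C), g = o * s := by
  haveI : Fact (Nat.Prime 2) := ⟨Nat.prime_two⟩
  have h1 := CfsgLib.sylow_sup_eq_top_of_pResidual_le P
    (CfsgLib.pResidual_le_of_isPGroup_quotient (CfsgLib.isPGroup_quotient_of_hasNormalPComplement h))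
  have hg : g ∈ pPrimeCore 2 C ⊔ (P : Subgroup C) := by rw [h1]; exact mem_top g
  obtain ⟨o, ho, s, hs, e⟩ := mem_sup_of_normal_left.mp hg
  exact ⟨o, ho, s, hs, e.symm⟩

/-- The conclusion for a subgroup `M` containing the normalizer and all centralizers. -/
theorem eq_top_of_embedded (A : Sylow 2 Q) (hsq : ∀ a ∈ (A : Subgroup Q), a * a = 1)
    (horb : ∃ a ∈ (A : Subgroup Q), a ≠ 1 ∧ ∃ b ∈ (A : Subgroup Q), b ≠ 1 ∧
      ∀ n ∈ normalizer ((A : Subgroup Q) : Set Q), n * a * n⁻¹ ≠ b)
    (M : Subgroup Q) (hNM : normalizer ((A : Subgroup Q) : Set Q) ≤ M)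
    (hCM : ∀ a ∈ (A : Subgroup Q), a ≠ 1 → centralizer ({a} : Set Q) ≤ M) : M = ⊤ := by
  haveI : Fact (Nat.Prime 2) := ⟨Nat.prime_two⟩
  have hAM : (A : Subgroup Q) ≤ M := le_normalizer.trans hNM
  have hc : ∀ w ∈ M, IsInvol w → centralizer ({w} : Set Q) ≤ M := by
    intro w hw hwi g hg
    have hp : IsPGroup 2 ((zpowers w).subgroupOf M) :=
      ((IsPGroup.of_card (n := 1) (by rw [Nat.card_zpowers, hwi.orderOf_eq, pow_one])) :
        IsPGroup 2 (zpowers w)).comap_of_injective M.subtype M.subtype_injective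
    obtain ⟨⟨m, hm⟩, hmA⟩ := exists_conj_into_sylow (A.subtype hAM) hp
    have h1 : m * w * m⁻¹ ∈ (A : Subgroup Q) := hmA ⟨w, hw⟩ (mem_zpowers w)
    have h2 := hCM _ h1 (hwi.conj m).1 (mem_cent_of_commute (conj_commute m (commute_of_mem_cent hg)))
    have h3 := mul_mem (mul_mem (inv_mem hm) h2) hm
    rwa [show m⁻¹ * (m * g * m⁻¹) * m = g by group] at h3
  -- no involution lies outside
  have hin : ∀ u : Q, IsInvol u → u ∈ M := by
    intro u hu
    by_contra huM
    obtain ⟨a, ha, ha1, b, hb, hb1, hab⟩ := horb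
    have e1 := CfsgLib.PiClosedTwo.isConj_of_outside hc ⟨ha1, hsq a ha⟩ (hAM ha) hu huM
    have e2 := CfsgLib.PiClosedTwo.isConj_of_outside hc ⟨hb1, hsq b hb⟩ (hAM hb) hu huM
    obtain ⟨g, hg⟩ := isConj_iff.mp (e1.trans e2.symm)
    haveI : IsMulCommutative (A : Subgroup Q) := ⟨⟨fun x y => Subtype.ext (by
      have hx := hsq _ x.2
      have hy := hsq _ y.2
      have hxy := hsq _ (mul_mem x.2 y.2)
      show (x : Q) * y = y * x
      rw [← inv_eq_of_mul_eq_one_right hxy, mul_inv_rev, inv_eq_of_mul_eq_one_right hx,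
        inv_eq_of_mul_eq_one_right hy])⟩⟩
    obtain ⟨n, hn, he⟩ := A.conj_eq_normalizer_conj_of_mem a g⁻¹ ha (by rw [inv_inv, hg]; exact hb)
    rw [inv_inv, hg] at he
    exact hab n⁻¹ (inv_mem hn) (by rw [inv_inv]; exact he.symm)
  set I := closure {x : Q | IsInvol x}
  haveI : I.Normal := by
    refine ⟨fun x hx g => ?_⟩
    induction hx using closure_induction with
    | mem y hy => exact subset_closure (hy.conj g)
    | one => simp
    | mul y z _ _ hy hz =>
      rw [show g * (y * z) * g⁻¹ = g * y * g⁻¹ * (g * z * g⁻¹) by group]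
      exact mul_mem hy hz
    | inv y _ hy =>
      rw [show g * y⁻¹ * g⁻¹ = (g * y * g⁻¹)⁻¹ by group]
      exact inv_mem hy
  have hAI : (A : Subgroup Q) ≤ I := fun x hx => by
    by_cases h1 : x = 1
    · exact h1 ▸ one_mem I
    · exact subset_closure ⟨h1, hsq x hx⟩
  have h1 := Sylow.normalizer_sup_eq_top (A.subtype hAI)
  have e : ((A.subtype hAI : Sylow 2 I) : Subgroup I).map I.subtype = (A : Subgroup Q) := by
    rw [Sylow.coe_subtype]
    exact map_subgroupOf_eq_of_le hAI
  rw [e] at h1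
  exact top_le_iff.mp (h1 ▸ sup_le hNM ((closure_le _).mpr fun x hx => hin x hx))

/-- **The Sylow subgroup is normal modulo the odd core.** -/
theorem split_of_semiregular (A : Sylow 2 Q) (hsq : ∀ a ∈ (A : Subgroup Q), a * a = 1)
    (h8 : 8 ≤ Nat.card (A : Subgroup Q))
    (hfix : ∀ n ∈ normalizer ((A : Subgroup Q) : Set Q), ∀ a ∈ (A : Subgroup Q), a ≠ 1 → n * a = a * n →
      n ∈ centralizer ((A : Subgroup Q) : Set Q))
    (horb : ∃ a ∈ (A : Subgroup Q), a ≠ 1 ∧ ∃ b ∈ (A : Subgroup Q), b ≠ 1 ∧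
      ∀ n ∈ normalizer ((A : Subgroup Q) : Set Q), n * a * n⁻¹ ≠ b) :
    ∀ q : Q, ∃ o ∈ pPrimeCore 2 Q, ∃ n ∈ normalizer ((A : Subgroup Q) : Set Q), q = o * n := by
  classical
  haveI : Fact (Nat.Prime 2) := ⟨Nat.prime_two⟩
  have hcomm : ∀ x ∈ (A : Subgroup Q), ∀ y ∈ (A : Subgroup Q), x * y = y * x := fun x hx y hy => by
    rw [← inv_eq_of_mul_eq_one_right (hsq _ (mul_mem hx hy)), mul_inv_rev, inv_eq_of_mul_eq_one_right (hsq x hx),
      inv_eq_of_mul_eq_one_right (hsq y hy)]
  -- centralizers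
  have hdec : ∀ a ∈ (A : Subgroup Q), a ≠ 1 → ∀ g ∈ centralizer ({a} : Set Q),
      ∃ o ∈ theta a, ∃ s ∈ (A : Subgroup Q), g = o * s := by
    intro a ha ha1 g hg
    set C := centralizer ({a} : Set Q)
    have hAC : (A : Subgroup Q) ≤ C := fun x hx => mem_cent_of_commute (hcomm x hx a ha)
    have hN : HasNormalPComplement 2 C :=
      CfsgLib.hasNormalPComplement_of_normalizer_le_centralizer (A.subtype hAC) fun n hn => by
        refine mem_centralizer_iff.mpr fun s hs => Subtype.ext ?_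
        have h1 : (n : Q) ∈ normalizer ((A : Subgroup Q) : Set Q) :=
          mem_normalizer_iff.mpr fun x => ⟨fun hx => (mem_normalizer_iff.mp hn ⟨x, hAC hx⟩).mp hx,
            fun hx => by
              have hxC : x ∈ C := by
                have := mul_mem (mul_mem (inv_mem n.2) (hAC hx)) n.2
                rwa [show (n : Q)⁻¹ * (n * x * (n : Q)⁻¹) * n = x by group] at this
              exact (mem_normalizer_iff.mp hn ⟨x, hxC⟩).mpr hx⟩
        exact mem_centralizer_iff.mp (hfix n h1 a ha ha1 (commute_of_mem_cent n.2)) s hs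
    obtain ⟨o, ho, s, hs, e⟩ := exists_core_mul hN (A.subtype hAC) ⟨g, hg⟩
    exact ⟨o, mem_map_of_mem _ ho, s, hs, congrArg Subtype.val e⟩
  have hsolv : SolvCent Q := by
    intro t ht
    have hti := isInvol_of_orderOf ht
    obtain ⟨m, hm⟩ := exists_conj_into_sylow A (P := zpowers t)
      (IsPGroup.of_card (n := 1) (by rw [Nat.card_zpowers, ht, pow_one]))
    set a := m * t * m⁻¹ with hadef
    have ha : a ∈ (A : Subgroup Q) := hm t (mem_zpowers t)
    set C := centralizer ({a} : Set Q)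
    haveI : ((theta a).subgroupOf C).Normal :=
      (normal_subgroupOf_iff_le_normalizer (theta_le_cent a)).mpr (theta_normalized a)
    have hs : Group.IsSolvable C := by
      refine isSolvable_of_ext ((theta a).subgroupOf C) (isSolvable_of_odd ?_) ?_
      · rw [Nat.card_congr (subgroupOfEquivOfLe (theta_le_cent a)).toEquiv]
        exact not_two_dvd_theta a
      · have hsur : Function.Surjective fun s : (A : Subgroup Q) =>
            (QuotientGroup.mk ⟨(s : Q), mem_cent_of_commute (hcomm s s.2 a ha)⟩ :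
              C ⧸ (theta a).subgroupOf C) := by
          intro q
          obtain ⟨g, rfl⟩ := QuotientGroup.mk'_surjective _ q
          obtain ⟨o, ho, s, hs, e⟩ := hdec a ha (hti.conj m).1 g g.2
          refine ⟨⟨s, hs⟩, QuotientGroup.eq.mpr ?_⟩
          rw [mem_subgroupOf]
          show s⁻¹ * (g : Q) ∈ theta a
          rw [e, ← mul_assoc]
          have := (mem_normalizer_iff.mp (theta_normalized a
            (inv_mem (mem_cent_of_commute (hcomm s hs a ha)))) o).mp ho
          rwa [inv_inv] at this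
        haveI := (A.2.to_le le_rfl).isNilpotent
        let f : (A : Subgroup Q) →* C ⧸ (theta a).subgroupOf C :=
          (QuotientGroup.mk' _).comp (Subgroup.inclusion fun x hx => mem_cent_of_commute (hcomm x hx a ha))
        exact Group.isSolvable_of_surjective (f := f) hsur
    let e : C →* centralizer ({t} : Set Q) :=
      { toFun := fun c => ⟨m⁻¹ * c * m, mem_cent_of_commute (by
          have := conj_commute m⁻¹ (commute_of_mem_cent c.2)
          rwa [hadef, show m⁻¹ * (m * t * m⁻¹) * m⁻¹⁻¹ = t by group, inv_inv] at this)⟩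
        map_one' := Subtype.ext (by simp)
        map_mul' := fun x y => Subtype.ext (by simp [mul_assoc]) }
    refine Group.isSolvable_of_surjective (f := e) fun x => ⟨⟨m * x * m⁻¹, mem_cent_of_commute
      (conj_commute m (commute_of_mem_cent x.2))⟩, Subtype.ext (by simp [e, mul_assoc])⟩
  -- the odd subgroup of the cores
  obtain ⟨a, ha, ha1, b, hb, hb1, hab⟩ := horb
  obtain ⟨c, hc, hc1, hca, hcb, hcab⟩ : ∃ c ∈ (A : Subgroup Q), c ≠ 1 ∧ c ≠ a ∧ c ≠ b ∧ c ≠ a * b := by
    by_contra hno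
    push Not at hno
    have hsub : ((A : Subgroup Q) : Set Q) ⊆ (({1, a, b, a * b} : Finset Q) : Set Q) := fun x hx => by
      simp only [Finset.coe_insert, Finset.coe_singleton, Set.mem_insert_iff, Set.mem_singleton_iff]
      by_contra hne
      push Not at hne
      exact hne.2.2.2 (hno x hx hne.1 hne.2.1 hne.2.2.1)
    have := Set.ncard_le_ncard hsub (Set.toFinite _)
    rw [Set.ncard_coe_finset, ← Nat.card_coe_set_eq, SetLike.coe_sort_coe] at this
    have := this.trans Finset.card_le_four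
    omega
  have hne : a ≠ b := fun e => hab 1 (one_mem _) (by rw [e]; group)
  set W := theta a ⊔ theta b ⊔ theta (a * b)
  have hWodd : ¬ 2 ∣ Nat.card W := not_two_dvd_closure hsolv ⟨ha1, hsq a ha⟩ ⟨hb1, hsq b hb⟩ ⟨hc1, hsq c hc⟩
    (hcomm a ha b hb) (hcomm a ha c hc) (hcomm b hb c hc) hne hca hcb hcab le_rfl
  have hθ : ∀ t ∈ (A : Subgroup Q), t ≠ 1 → theta t ≤ W := fun t ht ht1 =>
    theta_le_sup hsolv ⟨ht1, hsq t ht⟩ ⟨ha1, hsq a ha⟩ ⟨hb1, hsq b hb⟩ hne (hcomm a ha b hb)
      (hcomm a ha t ht) (hcomm b hb t ht)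
  have hWn : normalizer ((A : Subgroup Q) : Set Q) ≤ normalizer (W : Set Q) := by
    intro g hg
    have hmem : ∀ x ∈ (A : Subgroup Q), x ≠ 1 → (theta x).map (MulAut.conj g).toMonoidHom ≤ W := fun x hx hx1 =>
      (theta_conj g x).le.trans (hθ _ ((mem_normalizer_iff.mp hg x).mp hx) fun e => hx1 (conj_eq_one_iff.mp e))
    refine mem_normalizer_iff_map_conj_eq.mpr (eq_of_le_of_card_ge ?_
      (card_map_of_injective (MulEquiv.injective (MulAut.conj g))).ge)
    rw [Subgroup.map_sup, Subgroup.map_sup]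
    exact sup_le (sup_le (hmem a ha ha1) (hmem b hb hb1))
      (hmem _ (mul_mem ha hb) fun e => hne ((eq_inv_of_mul_eq_one_left e).trans (inv_eq_of_mul_eq_one_right (hsq b hb))))
  have hAW : (A : Subgroup Q) ≤ normalizer (W : Set Q) := le_normalizer.trans hWn
  have hWnormal : normalizer (W : Set Q) = ⊤ := eq_top_of_embedded A hsq ⟨a, ha, ha1, b, hb, hb1, hab⟩ _ hWn
    fun t ht ht1 g hg => by
      obtain ⟨o, ho, s, hs, rfl⟩ := hdec t ht ht1 g hg
      exact mul_mem (le_normalizer (hθ t ht ht1 ho)) (hAW hs)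
  haveI : W.Normal := normalizer_eq_top_iff.mp hWnormal
  have hWO : W ≤ pPrimeCore 2 Q := CfsgLib.le_pPrimeCore (Nat.prime_two.coprime_iff_not_dvd.mpr hWodd).symm
  have htop : pPrimeCore 2 Q ⊔ normalizer ((A : Subgroup Q) : Set Q) = ⊤ :=
    eq_top_of_embedded A hsq ⟨a, ha, ha1, b, hb, hb1, hab⟩ _ le_sup_right fun t ht ht1 g hg => by
      obtain ⟨o, ho, s, hs, rfl⟩ := hdec t ht ht1 g hg
      exact mul_mem (mem_sup_left (hWO (hθ t ht ht1 ho))) (mem_sup_right (le_normalizer hs))
  intro q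
  obtain ⟨o, ho, n, hn, e⟩ := mem_sup_of_normal_left.mp (htop.ge (mem_top q))
  exact ⟨o, ho, n, hn, e.symm⟩

end CfsgLib.U34Char
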