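import Cfsg.Agent.Lib.U34Char.Basic
import Cfsg.Agent.Lib.U34Char.ESixteen
import Cfsg.Agent.Lib.PSolvable
import Cfsg.Agent.Lib.PiClosedTwo.Klein
import Cfsg.Agent.Lib.SuzukiTwo.UnitarySixty

/-!
A group without odd core and without normal subgroups of odd index, with a Sylow `2`-subgroup of type `U₃(4)`,
is simple or a `2`-group.
-/

set_option autoImplicit false
set_option linter.unusedSectionVars false
set_option linter.style.haveILetI false

namespace CfsgLib.U34Char

open Subgroup Cfsg CfsgLib.HallE8 CfsgLib.ZCReduction CfsgLib.PiClosedTwo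
open scoped commutatorElement

universe u

variable {G : Type u} [Group G] [Finite G]

/-- The reduced configuration. -/
structure RConf (S : Sylow 2 G) : Prop where
  hs : CfsgLib.SuzukiTwo.Sixty (S : Subgroup G)
  core : oddCore G = ⊥
  oddIndex : ∀ N : Subgroup G, N.Normal → Odd N.index → N = ⊤

namespace RConf

variable {S : Sylow 2 G}

theorem center_iff (_h : RConf S) (x : (S : Subgroup G)) :
    x ∈ center (S : Subgroup G) ↔ (x : G) ∈ four S :=
  ⟨fun hx => ⟨x, hx, rfl⟩, fun hx => ((Conf.mem_four S).mp hx).2⟩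

theorem four_le (_h : RConf S) : four S ≤ (S : Subgroup G) := map_subtype_le _

theorem four_sq (h : RConf S) {x : G} (hx : x ∈ four S) : x * x = 1 := by
  obtain ⟨hx', hc⟩ := (Conf.mem_four S).mp hx
  exact congrArg Subtype.val (h.hs.cen _ hc)

theorem four_comm (_h : RConf S) {x s : G} (hx : x ∈ four S) (hs : s ∈ (S : Subgroup G)) : x * s = s * x := by
  obtain ⟨hx', hc⟩ := (Conf.mem_four S).mp hx
  exact (congrArg Subtype.val (mem_center_iff.mp hc ⟨s, hs⟩)).symm

theorem mem_four_of_sq (h : RConf S) {x : G} (hx : x ∈ (S : Subgroup G)) (h2 : x * x = 1) : x ∈ four S :=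
  (Conf.mem_four S).mpr ⟨hx, h.hs.inv _ (Subtype.ext h2)⟩

theorem card_four (h : RConf S) : Nat.card (four S) = 4 := by
  rw [four, card_map_of_injective (S : Subgroup G).subtype_injective, h.hs.card_center]

theorem sq_mem (h : RConf S) {s : G} (hs : s ∈ (S : Subgroup G)) : s * s ∈ four S :=
  (h.center_iff (⟨s, hs⟩ * ⟨s, hs⟩)).mp (h.hs.sq _)

theorem comm_mem (h : RConf S) {s t : G} (hs : s ∈ (S : Subgroup G)) (ht : t ∈ (S : Subgroup G)) :
    ⁅s, t⁆ ∈ four S :=
  (h.center_iff ⁅(⟨s, hs⟩ : (S : Subgroup G)), ⟨t, ht⟩⁆).mp (h.hs.cc _ _)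

theorem four_cases (h : RConf S) {x : G} (hx : x ∈ four S) (h1 : x ≠ 1) : IsCentInv S x :=
  ⟨h.four_le hx, ⟨h1, h.four_sq hx⟩, fun _ hs => h.four_comm hx hs⟩

theorem sylow_le_cent (h : RConf S) : (S : Subgroup G) ≤ centralizer (four S : Set G) :=
  fun _ hs => mem_centralizer_iff.mpr fun _ hx => h.four_comm hx hs

theorem exists_noncentral (h : RConf S) : ∃ u ∈ (S : Subgroup G), u ∉ four S := by
  by_contra hc
  push Not at hc
  have := card_le_of_le (show (S : Subgroup G) ≤ four S from hc)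
  rw [h.card_four, h.hs.card] at this
  omega

theorem sylow_normalizer_le (h : RConf S) :
    normalizer ((S : Subgroup G) : Set G) ≤ normalizer (four S : Set G) := fun n hn =>
  CfsgLib.Comp.mem_normalizer_of_maps fun x hx => h.mem_four_of_sq ((mem_normalizer_iff.mp hn x).mp (h.four_le hx))
    (by rw [show n * x * n⁻¹ * (n * x * n⁻¹) = n * (x * x) * n⁻¹ by group, h.four_sq hx]; group)

theorem cent_of_fix (h : RConf S) {g v : G} (hg : g ∈ normalizer (four S : Set G)) (hodd : Odd (orderOf g))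
    (hv : v ∈ four S) (h1 : v ≠ 1) (hgv : g * v = v * g) : g ∈ centralizer (four S : Set G) := by
  classical
  refine mem_centralizer_iff.mpr fun w hw => ?_
  by_contra hne
  have hw1 : w ≠ 1 := fun e => hne (by rw [e, one_mul, mul_one])
  have hwv : w ≠ v := fun e => hne (by rw [e]; exact hgv.symm)
  set σ : G → G := fun x => g * x * g⁻¹
  have hσV : ∀ x ∈ four S, σ x ∈ four S := fun x hx => (mem_normalizer_iff.mp hg x).mp hx
  have hσv : σ v = v := by show g * v * g⁻¹ = v; rw [hgv, mul_inv_cancel_right]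
  have hσw : σ w ≠ w := fun e => hne (mul_inv_eq_iff_eq_mul.mp e).symm
  have hσσ : σ (σ w) = w := by
    by_contra e
    have h2 : σ w ≠ v := fun e' => hwv (mul_left_cancel (mul_right_cancel (e'.trans hσv.symm)))
    have h3 : σ (σ w) ≠ σ w := fun e' => hσw (mul_left_cancel (mul_right_cancel e'))
    have h4 : σ (σ w) ≠ v := fun e' => h2 (mul_left_cancel (mul_right_cancel (e'.trans hσv.symm)))
    have h5 : σ w ≠ 1 := fun e' => hw1 (conj_eq_one_iff.mp e')
    have h6 : σ (σ w) ≠ 1 := fun e' => h5 (conj_eq_one_iff.mp e')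
    have hsub : ({1, v, w, σ w, σ (σ w)} : Finset G) ⊆ (Set.toFinite (four S : Set G)).toFinset := by
      intro x hx
      simp only [Finset.mem_insert, Finset.mem_singleton] at hx
      rw [Set.Finite.mem_toFinset]
      rcases hx with rfl | rfl | rfl | rfl | rfl
      exacts [one_mem _, hv, hw, hσV w hw, hσV _ (hσV w hw)]
    have hc := Finset.card_le_card hsub
    rw [← Set.ncard_eq_toFinset_card, ← Nat.card_coe_set_eq, SetLike.coe_sort_coe, h.card_four] at hc
    rw [Finset.card_insert_of_notMem (by simp [h1.symm, hw1.symm, h5.symm, h6.symm]),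
      Finset.card_insert_of_notMem (by simp [hwv.symm, h2.symm, h4.symm]),
      Finset.card_insert_of_notMem (by simp [hσw.symm, Ne.symm e]),
      Finset.card_insert_of_notMem (by simp [h3.symm]), Finset.card_singleton] at hc
    omega
  have h2 : g ^ 2 ∈ centralizer ({w} : Set G) := mem_centralizer_singleton_iff.mpr
    (mul_inv_eq_iff_eq_mul.mp (by
      refine Eq.trans ?_ hσσ
      show g ^ 2 * w * (g ^ 2)⁻¹ = g * (g * w * g⁻¹) * g⁻¹
      rw [pow_two]; group))
  exact hne (mem_centralizer_singleton_iff.mp (mem_of_sq_mem hodd h2)).symm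

theorem normalizer_fix (h : RConf S) {n v : G} (hn : n ∈ normalizer ((S : Subgroup G) : Set G))
    (hv : v ∈ four S) (h1 : v ≠ 1) (hnv : n * v = v * n) : n ∈ centralizer (four S : Set G) := by
  obtain ⟨u, hu, w, hw, hu2, hwo, e⟩ := exists_parts n
  have hle : zpowers n ≤ normalizer ((S : Subgroup G) : Set G) := zpowers_le.mpr hn
  rw [e]
  refine mul_mem (h.sylow_le_cent (mem_of_twoEl_normalizer S hu2 (hle hu))) ?_
  exact h.cent_of_fix (h.sylow_normalizer_le (hle hw)) hwo hv h1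
    (mem_centralizer_singleton_iff.mp ((zpowers_le.mpr (mem_centralizer_singleton_iff.mpr hnv) :
      zpowers n ≤ centralizer ({v} : Set G)) hw))

theorem cent_of_fix_coset (h : RConf S) {g u : G} (hgS : g ∈ normalizer ((S : Subgroup G) : Set G))
    (hgC : g ∈ centralizer (four S : Set G)) (hodd : Odd (orderOf g)) (huS : u ∈ (S : Subgroup G))
    (huV : u ∉ four S) (hu : g * u * g⁻¹ * u⁻¹ ∈ four S) : g ∈ centralizer ((S : Subgroup G) : Set G) := by
  set V := four S
  have hfixV : ∀ v ∈ V, g * v * g⁻¹ = v := fun v hv => by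
    rw [← mem_centralizer_iff.mp hgC v hv, mul_inv_cancel_right]
  have hconj : ∀ s ∈ (S : Subgroup G), g * s * g⁻¹ ∈ (S : Subgroup G) := fun s hs' =>
    (mem_normalizer_iff.mp hgS s).mp hs'
  have hTwo : ∀ s ∈ (S : Subgroup G), IsTwoEl s := fun s hs' => isTwoEl_of_mem S.2 hs'
  have step : ∀ w ∈ (S : Subgroup G), g * w * g⁻¹ * w⁻¹ ∈ V → g * w * g⁻¹ = w := fun w hw hd => by
    have h1 := fix_trick (w := w) (d := g * w * g⁻¹ * w⁻¹) hodd (hTwo _ (h.four_le hd)) (hfixV _ hd) (by group)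
    exact mul_inv_eq_one.mp h1
  have hgu := step u huS hu
  set u' : (S : Subgroup G) := ⟨u, huS⟩
  have hu' : u' ∉ center (S : Subgroup G) := fun e => huV ((h.center_iff u').mp e)
  have hT : ∀ w ∈ (S : Subgroup G), w * u = u * w → g * w * g⁻¹ = w := by
    intro w hw hwu
    refine step w hw (h.mem_four_of_sq (mul_mem (hconj w hw) (inv_mem hw)) ?_)
    have hw1 : (⟨w, hw⟩ : (S : Subgroup G)) ∈ centralizer ({u'} : Set (S : Subgroup G)) :=
      mem_centralizer_singleton_iff.mpr (Subtype.ext hwu)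
    have hw2 : (⟨g * w * g⁻¹, hconj w hw⟩ : (S : Subgroup G)) ∈ centralizer ({u'} : Set (S : Subgroup G)) := by
      refine mem_centralizer_singleton_iff.mpr (Subtype.ext ?_)
      show g * w * g⁻¹ * u = u * (g * w * g⁻¹)
      have := conj_commute g hwu
      rwa [hgu] at this
    have hcm : g * w * g⁻¹ * w⁻¹ = w⁻¹ * (g * w * g⁻¹) :=
      congrArg Subtype.val (h.hs.centralizer_comm hu' _ hw2 _ (inv_mem hw1))
    calc g * w * g⁻¹ * w⁻¹ * (g * w * g⁻¹ * w⁻¹) = g * w * g⁻¹ * (w⁻¹ * (g * w * g⁻¹)) * w⁻¹ := by group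
      _ = g * w * g⁻¹ * (g * w * g⁻¹ * w⁻¹) * w⁻¹ := by rw [hcm]
      _ = g * (w * w) * g⁻¹ * (w * w)⁻¹ := by group
      _ = 1 := by rw [hfixV _ (h.sq_mem hw), mul_inv_cancel]
  refine mem_centralizer_iff.mpr fun s hs' => ?_
  set d := g * s * g⁻¹ * s⁻¹ with hd
  have hdS : d ∈ (S : Subgroup G) := mul_mem (hconj s hs') (inv_mem hs')
  have hdu : d * u = u * d := by
    have hc : u * s * u⁻¹ * s⁻¹ ∈ V := h.comm_mem huS hs'
    set z := u * s * u⁻¹ * s⁻¹ with hz
    set q := g * s * g⁻¹ with hq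
    have e1 : u * q * u⁻¹ = z * q := by
      calc u * q * u⁻¹ = g * u * g⁻¹ * q * (g * u * g⁻¹)⁻¹ := by rw [hgu]
        _ = g * (z * s) * g⁻¹ := by rw [hz, hq]; group
        _ = g * z * g⁻¹ * q := by rw [hq]; group
        _ = z * q := by rw [hfixV z hc]
    have hzq : z * q = q * z := h.four_comm hc (hconj s hs')
    have e2 : u * d * u⁻¹ = d := by
      calc u * d * u⁻¹ = u * q * u⁻¹ * (u * s * u⁻¹)⁻¹ := by rw [hd]; group
        _ = z * q * (z * s)⁻¹ := by rw [e1, show u * s * u⁻¹ = z * s by rw [hz]; group]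
        _ = q * z * (z * s)⁻¹ := by rw [hzq]
        _ = q * (z * s⁻¹) * z⁻¹ := by group
        _ = q * (s⁻¹ * z) * z⁻¹ := by rw [h.four_comm hc (inv_mem hs')]
        _ = d := by rw [hd]; group
    exact (mul_inv_eq_iff_eq_mul.mp e2).symm
  have h1 := fix_trick (w := s) hodd (hTwo d hdS) (hT d hdS hdu) (by rw [hd]; group)
  exact (mul_inv_eq_iff_eq_mul.mp (mul_inv_eq_one.mp h1)).symm

theorem odd_normal_bot (h : RConf S) (N : Subgroup G) [N.Normal] (hN : Odd (Nat.card N)) : N = ⊥ :=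
  le_bot_iff.mp (h.core ▸ CfsgLib.le_oddCore hN)

/-- An involution which is isolated in the Sylow subgroup is central. -/
theorem central_of_isolated (h : RConf S) {v : G} (hv : v ∈ four S) (h1 : v ≠ 1)
    (hiso : ∀ g : G, g * v * g⁻¹ ∈ (S : Subgroup G) → g * v * g⁻¹ = v) : v ∈ center G := by
  have hvc := h.four_cases hv h1
  obtain ⟨N, hN, hNodd, hNz⟩ := Cfsg.Agent.S0215.result S v hvc.2.1.orderOf_eq hvc.1 hiso
  haveI := hN
  have e := h.odd_normal_bot N hNodd
  refine mem_center_iff.mpr fun g => ?_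
  exact (mul_inv_eq_iff_eq_mul.mp (mul_inv_eq_one.mp (mem_bot.mp (e ▸ hNz g)))).symm

theorem four_central (h : RConf S) {z : G} (hz : z ∈ four S) (hz1 : z ≠ 1) (hzc : z ∈ center G) :
    four S ≤ center G := by
  intro v hv
  by_cases h1 : v = 1
  · exact h1 ▸ one_mem _
  refine h.central_of_isolated hv h1 fun g hg => ?_
  have hvc := h.four_cases hv h1
  have hw : g * v * g⁻¹ ∈ four S := h.mem_four_of_sq hg (hvc.2.1.conj g).2
  obtain ⟨c, hc, hn⟩ := exists_cent_mul_normalizer S hvc (h.four_cases hw (hvc.2.1.conj g).1) rfl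
  have h2 := h.normalizer_fix hn hz hz1 (mem_center_iff.mp hzc _)
  have e1 : c * g * v * (c * g)⁻¹ = g * v * g⁻¹ := by
    rw [show c * g * v * (c * g)⁻¹ = c * (g * v * g⁻¹) * c⁻¹ by group, commute_of_mem_cent hc, mul_inv_cancel_right]
  rw [← e1, ← mem_centralizer_iff.mp h2 v hv, mul_inv_cancel_right]

/-- If the four-group is central, `G` is a `2`-group. -/
theorem eq_top_of_central (h : RConf S) (hV : four S ≤ center G) : (S : Subgroup G) = ⊤ := by
  classical
  haveI : Fact (Nat.Prime 2) := ⟨Nat.prime_two⟩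
  set V := four S with hVdef
  haveI hVn : V.Normal := ⟨fun x hx g => by rwa [mem_center_iff.mp (hV hx) g, mul_inv_cancel_right]⟩
  set π := QuotientGroup.mk' V
  have hk : ∀ x : G, π x = 1 ↔ x ∈ V := fun x => QuotientGroup.eq_one_iff x
  set A := S.mapSurjective (f := π) (QuotientGroup.mk'_surjective V)
  have hA : ∀ x : G, π x ∈ (A : Subgroup (G ⧸ V)) ↔ x ∈ (S : Subgroup G) := fun x => by
    refine ⟨?_, fun hx => mem_map_of_mem π hx⟩
    rintro ⟨s, hs, e⟩
    have h2 : s⁻¹ * x ∈ V := (hk _).mp (by rw [map_mul, map_inv, e, inv_mul_cancel])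
    have := mul_mem hs (h.four_le h2)
    rwa [mul_inv_cancel_left] at this
  have hlift : ∀ q ∈ normalizer ((A : Subgroup (G ⧸ V)) : Set (G ⧸ V)),
      ∃ m ∈ normalizer ((S : Subgroup G) : Set G), π m = q := by
    intro q hq
    obtain ⟨m, rfl⟩ := QuotientGroup.mk'_surjective V q
    refine ⟨m, mem_normalizer_iff.mpr fun x => ?_, rfl⟩
    rw [← hA x, ← hA (m * x * m⁻¹), map_mul, map_mul, map_inv]
    exact mem_normalizer_iff.mp hq (π x)
  have hsq : ∀ a ∈ (A : Subgroup (G ⧸ V)), a * a = 1 := by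
    rintro _ ⟨s, hs, rfl⟩
    rw [← map_mul]
    exact (hk _).mpr (h.sq_mem hs)
  have h8 : 8 ≤ Nat.card (A : Subgroup (G ⧸ V)) := by
    have e1 : V.relIndex (S : Subgroup G) = Nat.card (A : Subgroup (G ⧸ V)) := by
      have := Subgroup.relIndex_ker (f := π) (K := (S : Subgroup G))
      rwa [QuotientGroup.ker_mk'] at this
    have e2 := Subgroup.relIndex_mul_relIndex ⊥ V (S : Subgroup G) bot_le h.four_le
    rw [Subgroup.relIndex_bot_left, Subgroup.relIndex_bot_left, h.card_four, h.hs.card, e1] at e2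
    omega
  have hfix : ∀ n ∈ normalizer ((A : Subgroup (G ⧸ V)) : Set (G ⧸ V)), ∀ a ∈ (A : Subgroup (G ⧸ V)), a ≠ 1 →
      n * a = a * n → n ∈ centralizer ((A : Subgroup (G ⧸ V)) : Set (G ⧸ V)) := by
    intro q hq a ha ha1 hqa
    obtain ⟨m, hm, rfl⟩ := hlift q hq
    obtain ⟨x, hx, rfl⟩ := ha
    obtain ⟨u, hu, w, hw, hu2, hwo, e⟩ := exists_parts m
    have hle : zpowers m ≤ normalizer ((S : Subgroup G) : Set G) := zpowers_le.mpr hm
    have huS := mem_of_twoEl_normalizer S hu2 (hle hu)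
    have hwx : π w * π x = π x * π w := by
      obtain ⟨j, rfl⟩ := mem_zpowers_iff.mp hw
      rw [map_zpow]
      exact (Commute.zpow_left hqa j).eq
    have hwV : w * x * w⁻¹ * x⁻¹ ∈ V := (hk _).mp (by
      rw [map_mul, map_mul, map_mul, map_inv, map_inv, hwx, mul_inv_cancel_right, mul_inv_cancel])
    have hwC : w ∈ centralizer (V : Set G) :=
      mem_centralizer_iff.mpr fun v hv => (mem_center_iff.mp (hV hv) w).symm
    have hwS := h.cent_of_fix_coset (hle hw) hwC hwo hx (fun hxV => ha1 ((hk x).mpr hxV)) hwV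
    refine mem_centralizer_iff.mpr ?_
    rintro _ ⟨s, hs, rfl⟩
    rw [e, map_mul]
    have h1 : π s * π u = π u * π s := by
      rw [← inv_eq_of_mul_eq_one_right (hsq _ (mul_mem (mem_map_of_mem π hs) (mem_map_of_mem π huS))),
        mul_inv_rev, inv_eq_of_mul_eq_one_right (hsq _ (mem_map_of_mem π hs)),
        inv_eq_of_mul_eq_one_right (hsq _ (mem_map_of_mem π huS))]
    have h2 : π s * π w = π w * π s := by rw [← map_mul, ← map_mul, mem_centralizer_iff.mp hwS s hs]
    exact (Commute.mul_right h1 h2).eq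
  have horb : ∃ a ∈ (A : Subgroup (G ⧸ V)), a ≠ 1 ∧ ∃ b ∈ (A : Subgroup (G ⧸ V)), b ≠ 1 ∧
      ∀ n ∈ normalizer ((A : Subgroup (G ⧸ V)) : Set (G ⧸ V)), n * a * n⁻¹ ≠ b := by
    obtain ⟨u, hu, huV⟩ := h.exists_noncentral
    have hz1 := h.sq_mem hu
    obtain ⟨z₂, hz₂, hz₂1, hz₂2⟩ : ∃ z ∈ V, z ≠ 1 ∧ z ≠ u * u := by
      by_contra hno
      push Not at hno
      have hsub : (V : Set G) ⊆ (({1, u * u} : Finset G) : Set G) := fun x hx => by
        simp only [Finset.coe_insert, Finset.coe_singleton, Set.mem_insert_iff, Set.mem_singleton_iff]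
        exact or_iff_not_imp_left.mpr (hno x hx)
      have hc := Set.ncard_le_ncard hsub (Set.toFinite _)
      rw [Set.ncard_coe_finset, ← Nat.card_coe_set_eq, SetLike.coe_sort_coe, h.card_four] at hc
      have h2 : ({1, u * u} : Finset G).card ≤ 2 := Finset.card_le_two
      omega
    obtain ⟨y, -, hy⟩ := h.hs.exists_sqrt (x := ⟨u, hu⟩) (fun e => huV ((h.center_iff _).mp e))
      (z := ⟨z₂, h.four_le hz₂⟩) ((h.center_iff _).mpr hz₂)
    have hy' : (y : G) * y = z₂ := congrArg Subtype.val hy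
    refine ⟨π u, mem_map_of_mem π hu, fun e => huV ((hk u).mp e), π y, mem_map_of_mem π y.2, fun e => ?_, ?_⟩
    · exact hz₂1 (hy' ▸ h.four_sq ((hk _).mp e))
    intro q hq e
    obtain ⟨m, rfl⟩ := QuotientGroup.mk'_surjective V q
    set d := m * u * m⁻¹ * (y : G)⁻¹ with hd
    have hdV : d ∈ V := (hk _).mp (by rw [hd, map_mul, map_mul, map_mul, map_inv, map_inv, e, mul_inv_cancel])
    refine hz₂2 ?_
    calc z₂ = d * d * ((y : G) * y) := by rw [h.four_sq hdV, one_mul, hy']
      _ = d * (y : G) * (d * (y : G)) := by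
        rw [show d * d * ((y : G) * y) = d * (d * (y : G)) * y by group, h.four_comm hdV y.2,
          show d * ((y : G) * d) * y = d * y * (d * y) by group]
        rw [h.four_comm hdV y.2]
      _ = m * (u * u) * m⁻¹ := by rw [hd]; group
      _ = u * u := by rw [mem_center_iff.mp (hV hz1) m, mul_inv_cancel_right]
  have hO : pPrimeCore 2 (G ⧸ V) = ⊥ := by
    rw [eq_bot_iff_forall]
    intro q hq
    obtain ⟨x, rfl⟩ := QuotientGroup.mk'_surjective V q
    set K : Subgroup G := (pPrimeCore 2 (G ⧸ V)).comap π with hK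
    haveI : K.Normal := by rw [hK]; infer_instance
    have hodd : Odd (Nat.card (pPrimeCore 2 (G ⧸ V))) :=
      Nat.coprime_two_right.mp (CfsgLib.card_pPrimeCore_coprime 2)
    obtain ⟨P⟩ : Nonempty (Sylow 2 K) := inferInstance
    have hPV : ∀ p ∈ (P : Subgroup K), (p : G) ∈ V := fun p hp => by
      refine (hk _).mp (orderOf_eq_one_iff.mp ?_)
      obtain ⟨i, hi⟩ := isTwoEl_of_mem (P.2.map K.subtype) (mem_map_of_mem K.subtype hp)
      have hd1 : orderOf (π p) ∣ 2 ^ i := hi ▸ orderOf_map_dvd π (p : G)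
      have hd2 : orderOf (π p) ∣ Nat.card (pPrimeCore 2 (G ⧸ V)) := Subgroup.orderOf_dvd_natCard _ p.2
      exact Nat.eq_one_of_dvd_coprimes ((Nat.coprime_two_left.mpr hodd).pow_left i) hd1 hd2
    have hN : HasNormalPComplement 2 K :=
      CfsgLib.hasNormalPComplement_of_normalizer_le_centralizer P fun n _ =>
        mem_centralizer_iff.mpr fun p hp => Subtype.ext (mem_center_iff.mp (hV (hPV p hp)) n).symm
    obtain ⟨o, ho, s, hs, e⟩ := exists_core_mul hN P ⟨x, hq⟩
    have ho1 : (o : G) = 1 := mem_bot.mp (h.core ▸ CfsgLib.map_pPrimeCore_le 2 K (mem_map_of_mem K.subtype ho))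
    have ex : x = (o : G) * (s : G) := congrArg Subtype.val e
    rw [ex, ho1, one_mul]
    exact (hk _).mpr (hPV s hs)
  have hall : ∀ g : G, g ∈ normalizer ((S : Subgroup G) : Set G) := by
    intro g
    obtain ⟨o, ho, n, hn, e⟩ := split_of_semiregular A hsq h8 hfix horb (π g)
    rw [hO, mem_bot] at ho
    obtain ⟨m, hm, rfl⟩ := hlift n hn
    rw [ho, one_mul] at e
    have h1 : m⁻¹ * g ∈ V := (hk _).mp (by rw [map_mul, map_inv, e, inv_mul_cancel])
    have := mul_mem hm (le_normalizer (h.four_le h1))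
    rwa [mul_inv_cancel_left] at this
  haveI : (S : Subgroup G).Normal := normalizer_eq_top_iff.mp (eq_top_iff.mpr fun g _ => hall g)
  exact h.oddIndex _ inferInstance (Nat.not_even_iff_odd.mp fun he => S.not_dvd_index (even_iff_two_dvd.mp he))

/-- A nontrivial normal subgroup contains the four-group, unless the latter is central. -/
theorem four_le_normal (h : RConf S) (hnc : ¬ four S ≤ center G) (N : Subgroup G) [N.Normal] (hN : N ≠ ⊥) :
    four S ≤ N := by
  classical
  haveI : Fact (Nat.Prime 2) := ⟨Nat.prime_two⟩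
  have heven : 2 ∣ Nat.card N := by
    by_contra hc
    exact hN (h.odd_normal_bot N (Nat.odd_iff.mpr (Nat.two_dvd_ne_zero.mp hc)))
  obtain ⟨⟨t, htN⟩, ht⟩ := exists_prime_orderOf_dvd_card' (G := N) 2 heven
  rw [Subgroup.orderOf_mk] at ht
  obtain ⟨m, hm⟩ := exists_conj_into_sylow S (P := zpowers t)
    (IsPGroup.of_card (n := 1) (by rw [Nat.card_zpowers, ht, pow_one]))
  set a := m * t * m⁻¹
  have hai : IsInvol a := (isInvol_of_orderOf ht).conj m
  have ha : a ∈ four S := h.mem_four_of_sq (hm t (mem_zpowers t)) hai.2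
  have haN : a ∈ N := ‹N.Normal›.conj_mem t htN m
  intro v hv
  by_contra hvN
  refine hnc (h.four_central ha hai.1 (h.central_of_isolated ha hai.1 fun g hg => ?_))
  set w := g * a * g⁻¹
  have hw : w ∈ four S := h.mem_four_of_sq hg (hai.conj g).2
  have hwN : w ∈ N := ‹N.Normal›.conj_mem a haN g
  by_contra hne
  have hv1 : v ≠ 1 := fun e => hvN (e ▸ one_mem N)
  have h1 : v ≠ a := fun e => hvN (e ▸ haN)
  have h2 : v ≠ w := fun e => hvN (e ▸ hwN)
  have h3 : a * w ≠ 1 := fun e => hne ((eq_inv_of_mul_eq_one_right e).trans (inv_eq_of_mul_eq_one_right hai.2))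
  have h4 : v ≠ a * w := fun e => hvN (e ▸ mul_mem haN hwN)
  have h5 : a * w ≠ a := fun e => (hai.conj g).1 (mul_eq_left.mp e)
  have h6 : a * w ≠ w := fun e => hai.1 (mul_eq_right.mp e)
  have hsub : ({1, a, w, a * w, v} : Finset G) ⊆ (Set.toFinite (four S : Set G)).toFinset := by
    intro x hx
    simp only [Finset.mem_insert, Finset.mem_singleton] at hx
    rw [Set.Finite.mem_toFinset]
    rcases hx with rfl | rfl | rfl | rfl | rfl
    exacts [one_mem _, ha, hw, mul_mem ha hw, hv]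
  have hc := Finset.card_le_card hsub
  rw [← Set.ncard_eq_toFinset_card, ← Nat.card_coe_set_eq, SetLike.coe_sort_coe, h.card_four] at hc
  rw [Finset.card_insert_of_notMem (by simp [hai.1.symm, (hai.conj g).1.symm, h3.symm, hv1.symm, w]),
    Finset.card_insert_of_notMem (by simp [Ne.symm hne, h5.symm, h1.symm, w]),
    Finset.card_insert_of_notMem (by simp [h6.symm, h2.symm]),
    Finset.card_insert_of_notMem (by simp [h4.symm]), Finset.card_singleton] at hc
  omega

/-- The abelian normal subgroups are trivial. -/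
theorem normal_abelian_bot (h : RConf S) (hnc : ¬ four S ≤ center G) (N : Subgroup G) [N.Normal]
    (hab : ∀ x ∈ N, ∀ y ∈ N, x * y = y * x) : N = ⊥ := by
  classical
  haveI : Fact (Nat.Prime 2) := ⟨Nat.prime_two⟩
  by_contra hN
  -- `N` is a `2`-group
  have h2 : ∀ x ∈ N, IsTwoEl x := by
    intro x hx
    obtain ⟨u, hu, w, hw, hu2, hwo, e⟩ := exists_parts x
    have hwN : w ∈ N := (zpowers_le.mpr hx : zpowers x ≤ N) hw
    have hw1 : w = 1 := by
      set M := zpowers (⟨w, hwN⟩ : N)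
      haveI : M.Normal := ⟨fun a ha b => by
        rwa [show b * a * b⁻¹ = a from Subtype.ext (by
          show (b : G) * a * (b : G)⁻¹ = a
          rw [hab _ b.2 _ a.2, mul_inv_cancel_right])]⟩
      have hM : Odd (Nat.card M) := by rwa [Nat.card_zpowers, Subgroup.orderOf_mk]
      exact mem_bot.mp (h.core ▸ CfsgLib.map_pPrimeCore_le 2 N
        (mem_map_of_mem N.subtype (CfsgLib.le_oddCore (N := M) hM (mem_zpowers _))))
    rw [e, hw1, mul_one]
    exact hu2
  have hp : IsPGroup 2 N := IsPGroup.iff_orderOf.mpr fun x => by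
    obtain ⟨k, hk⟩ := h2 x x.2
    exact ⟨k, by rw [← hk, Subgroup.orderOf_coe]⟩
  have hNS : N ≤ (S : Subgroup G) := (CfsgLib.le_pCore hp).trans (CfsgLib.pCore_le_sylow S)
  -- the four-group is normal
  have hVn : four S ≤ N := h.four_le_normal hnc N hN
  have hconj : ∀ g : G, ∀ x ∈ four S, g * x * g⁻¹ ∈ four S := fun g x hx =>
    h.mem_four_of_sq (hNS (‹N.Normal›.conj_mem x (hVn hx) g))
      (by rw [show g * x * g⁻¹ * (g * x * g⁻¹) = g * (x * x) * g⁻¹ by group, h.four_sq hx]; group)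
  haveI : (four S).Normal := ⟨fun x hx g => hconj g x hx⟩
  have hC : centralizer (four S : Set G) = ⊤ :=
    h.oddIndex _ inferInstance (Nat.not_even_iff_odd.mp fun he => S.not_dvd_index
      ((even_iff_two_dvd.mp he).trans (Subgroup.index_dvd_of_le h.sylow_le_cent)))
  exact hnc fun v hv => mem_center_iff.mpr fun g =>
    (mem_centralizer_iff.mp (hC.ge (mem_top g)) v hv).symm

/-- A minimal normal subgroup contains the Sylow subgroup. -/
theorem sylow_le_minimal (h : RConf S) (hnc : ¬ four S ≤ center G) (N : Subgroup G) [N.Normal] (hN : N ≠ ⊥)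
    (hmin : ∀ M : Subgroup G, M.Normal → M ≤ N → M ≠ ⊥ → M = N) : (S : Subgroup G) ≤ N := by
  classical
  haveI : Fact (Nat.Prime 2) := ⟨Nat.prime_two⟩
  by_contra hSN
  obtain ⟨s, hs, hsN⟩ := SetLike.not_le_iff_exists.mp hSN
  have hVN := h.four_le_normal hnc N hN
  obtain ⟨v, hv, hv1⟩ : ∃ v ∈ four S, v ≠ 1 := by
    by_contra hc
    push Not at hc
    have := h.card_four
    rw [(eq_bot_iff_forall _).mpr hc, card_bot] at this
    omega
  have hvc := h.four_cases hv hv1
  set M : Subgroup G := N ⊔ (S : Subgroup G) with hMdef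
  have hSM : (S : Subgroup G) ≤ M := le_sup_right
  set v' : M := ⟨v, hSM hvc.1⟩
  -- `v` is moved inside `M`
  obtain ⟨g, hg, hgv⟩ : ∃ g : M, g * v' * g⁻¹ ∈ S.subtype hSM ∧ g * v' * g⁻¹ ≠ v' := by
    by_contra hcon
    push Not at hcon
    obtain ⟨K, hK, hKodd, hKz⟩ := Cfsg.Agent.S0215.result (S.subtype hSM) v'
      (by rw [Subgroup.orderOf_mk]; exact hvc.2.1.orderOf_eq) hvc.1 hcon
    haveI := hK
    haveI hK2 : (K.comap (inclusion (le_sup_left : N ≤ M))).Normal := inferInstance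
    have hKN : ∀ n : N, inclusion (le_sup_left : N ≤ M) n ∈ K → n = 1 := by
      intro n hn
      have hodd : Odd (Nat.card (K.comap (inclusion (le_sup_left : N ≤ M)))) :=
        Odd.of_dvd_nat hKodd (Subgroup.card_comap_dvd_of_injective K _ (inclusion_injective _))
      exact Subtype.ext (mem_bot.mp (h.core ▸ CfsgLib.map_pPrimeCore_le 2 N
        (mem_map_of_mem N.subtype (CfsgLib.le_oddCore hodd hn))))
    -- `v` would centralize `N`
    have hcent : ∀ n ∈ N, v * n = n * v := fun n hn => by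
      have h1 : v * n * v⁻¹ * n⁻¹ ∈ N := mul_mem (‹N.Normal›.conj_mem n hn v) (inv_mem hn)
      have h2 := hKN ⟨_, h1⟩ (hKz ⟨n, mem_sup_left hn⟩)
      exact mul_inv_eq_iff_eq_mul.mp (mul_inv_eq_one.mp (congrArg Subtype.val h2))
    set Y := N ⊓ centralizer (N : Set G)
    have hY : Y = ⊥ := h.normal_abelian_bot hnc Y fun x hx y hy => mem_centralizer_iff.mp hy.2 x hx.1
    exact hv1 (mem_bot.mp (hY ▸ (⟨hVN hv, mem_centralizer_iff.mpr fun n hn => (hcent n hn).symm⟩ : v ∈ Y)))
  -- an odd element of `N ∩ N(S)` moving `v`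
  have hinv : IsInvol v' := ⟨fun e => hv1 (congrArg Subtype.val e), Subtype.ext (h.four_sq hv)⟩
  have hc1 : IsCentInv (S.subtype hSM) v' :=
    ⟨hvc.1, hinv, fun t ht => Subtype.ext (h.four_comm hv ht)⟩
  have hc2 : IsCentInv (S.subtype hSM) (g * v' * g⁻¹) :=
    ⟨hg, hinv.conj g, fun t ht => Subtype.ext (h.four_comm
      (h.mem_four_of_sq hg (congrArg Subtype.val (hinv.conj g).2)) ht)⟩
  obtain ⟨c, hc, hn⟩ := exists_cent_mul_normalizer (S.subtype hSM) hc1 hc2 rfl
  set n : M := c * g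
  have hnv : n * v' * n⁻¹ ≠ v' := by
    intro e
    refine hgv (Eq.trans ?_ e)
    rw [show c * g * v' * (c * g)⁻¹ = c * (g * v' * g⁻¹) * c⁻¹ by group, commute_of_mem_cent hc,
      mul_inv_cancel_right]
  have hnS : (n : G) ∈ normalizer ((S : Subgroup G) : Set G) := mem_normalizer_iff.mpr fun x => by
    constructor
    · intro hx; exact (mem_normalizer_iff.mp hn ⟨x, hSM hx⟩).mp hx
    · intro hx
      have hxM : x ∈ M := by
        have := mul_mem (mul_mem (inv_mem n.2) (hSM hx)) n.2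
        rwa [show (n : G)⁻¹ * ((n : G) * x * (n : G)⁻¹) * n = x by group] at this
      exact (mem_normalizer_iff.mp hn ⟨x, hxM⟩).mpr hx
  obtain ⟨u, hu, w, hw, hu2, hwo, e⟩ := exists_parts (n : G)
  have hle : zpowers (n : G) ≤ normalizer ((S : Subgroup G) : Set G) := zpowers_le.mpr hnS
  have huS := mem_of_twoEl_normalizer S hu2 (hle hu)
  have hwM : w ∈ M := (zpowers_le.mpr n.2 : zpowers (n : G) ≤ M) hw
  have hwv : w * v * w⁻¹ ≠ v := by
    intro e'
    refine hnv (Subtype.ext ?_)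
    show (n : G) * v * (n : G)⁻¹ = v
    rw [e, show u * w * v * (u * w)⁻¹ = u * (w * v * w⁻¹) * u⁻¹ by group, e', ← h.four_comm hv huS,
      mul_inv_cancel_right]
  set π := QuotientGroup.mk' N
  have hwN : w ∈ N := by
    refine (QuotientGroup.eq_one_iff w).mp (orderOf_eq_one_iff.mp ?_)
    obtain ⟨a, ha, t, ht, rfl⟩ := mem_sup_of_normal_left.mp hwM
    have e0 : π (a * t) = π t := by rw [map_mul, show π a = 1 from (QuotientGroup.eq_one_iff a).mpr ha, one_mul]
    obtain ⟨i, hi⟩ := isTwoEl_of_mem S.2 ht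
    refine Nat.eq_one_of_dvd_coprimes ((Nat.coprime_two_left.mpr hwo).pow_left i) ?_ (orderOf_map_dvd π (a * t))
    show orderOf (π (a * t)) ∣ 2 ^ i
    rw [e0, ← hi]
    exact orderOf_map_dvd π t
  have hwn := hle hw
  -- `(s w)^m` is fixed by `w` modulo the four-group
  set m := orderOf w
  have hstep : ∀ k, (s * w) ^ k * (w ^ k)⁻¹ ∈ (S : Subgroup G) := by
    intro k
    induction k with
    | zero => simp
    | succ k ih =>
      rw [show (s * w) ^ (k + 1) * (w ^ (k + 1))⁻¹ = s * (w * ((s * w) ^ k * (w ^ k)⁻¹) * w⁻¹) by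
        rw [pow_succ', pow_succ']; group]
      exact mul_mem hs ((mem_normalizer_iff.mp hwn _).mp ih)
  set r := (s * w) ^ m with hr
  have hrS : r ∈ (S : Subgroup G) := by simpa [m, pow_orderOf_eq_one] using hstep m
  have hrw : w * r * w⁻¹ = s⁻¹ * r * s := by
    have e1 : r * (s * w) = s * w * r := by rw [hr, ← pow_succ, ← pow_succ']
    calc w * r * w⁻¹ = s⁻¹ * (s * w * r) * w⁻¹ := by group
      _ = s⁻¹ * r * s := by rw [← e1]; group
  have hrN : r ∉ N := by
    intro hrN
    refine hsN ?_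
    have h1 : s ^ m ∈ N := (QuotientGroup.eq_one_iff _).mp (by
      have e2 : π r = π (s ^ m) := by
        rw [hr, map_pow, map_pow, map_mul, show π w = 1 from (QuotientGroup.eq_one_iff w).mpr hwN, mul_one]
      show π (s ^ m) = 1
      rw [← e2]
      exact (QuotientGroup.eq_one_iff r).mpr hrN)
    obtain ⟨i, hi⟩ := isTwoEl_of_mem S.2 hs
    have hcop : (orderOf s).Coprime m := hi ▸ (Nat.coprime_two_left.mpr hwo).pow_left i
    obtain ⟨j, hj⟩ := exists_pow_eq_self_of_coprime hcop.symm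
    exact hj ▸ pow_mem h1 j
  set d := w * r * w⁻¹ * r⁻¹ with hd
  have hdV : d ∈ four S := by
    rw [hd, hrw, show s⁻¹ * r * s * r⁻¹ = s⁻¹ * (r * s * r⁻¹) by group]
    have := h.comm_mem (inv_mem hs) hrS
    rwa [commutatorElement_def, inv_inv, mul_assoc, mul_assoc, ← mul_assoc r] at this
  have hsq : w * (r * r) = r * r * w := by
    refine mul_inv_eq_iff_eq_mul.mp ?_
    calc w * (r * r) * w⁻¹ = d * r * (d * r) := by rw [hd]; group
      _ = d * d * (r * r) := by
        rw [show d * r * (d * r) = d * (r * d) * r by group, ← h.four_comm hdV hrS]; group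
      _ = r * r := by rw [h.four_sq hdV, one_mul]
  have hwC := h.cent_of_fix (h.sylow_normalizer_le hwn) hwo (h.sq_mem hrS)
    (fun e' => hrN (hVN (h.mem_four_of_sq hrS e'))) hsq
  exact hwv (by rw [← mem_centralizer_iff.mp hwC v hv, mul_inv_cancel_right])

/-- **The reduction**: the group is simple or a `2`-group. -/
theorem simple_or_top (h : RConf S) : IsSimpleGroup G ∨ (S : Subgroup G) = ⊤ := by
  classical
  haveI : Fact (Nat.Prime 2) := ⟨Nat.prime_two⟩
  by_cases hV : four S ≤ center G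
  · exact Or.inr (h.eq_top_of_central hV)
  refine Or.inl ?_
  haveI hnt : Nontrivial G := by
    by_contra hc
    rw [not_nontrivial_iff_subsingleton] at hc
    exact hV fun v _ => Subsingleton.elim (1 : G) v ▸ one_mem _
  refine { eq_bot_or_eq_top_of_normal := fun M hM => ?_ }
  by_contra hne
  push Not at hne
  haveI := hM
  obtain ⟨N, ⟨hNn, hN, hNM⟩, hmin⟩ := (Set.toFinite {N : Subgroup G | N.Normal ∧ N ≠ ⊥ ∧ N ≤ M}).exists_minimal
    ⟨M, hM, hne.1, le_rfl⟩
  haveI := hNn
  have hS := h.sylow_le_minimal hV N hN fun K hK hKN hK1 =>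
    le_antisymm hKN (hmin ⟨hK, hK1, hKN.trans hNM⟩ hKN)
  have := h.oddIndex N inferInstance (Nat.not_even_iff_odd.mp fun he => S.not_dvd_index
    ((even_iff_two_dvd.mp he).trans (Subgroup.index_dvd_of_le hS)))
  exact hne.2 (top_le_iff.mp (this ▸ hNM))

end RConf

universe v

/-- The statement of S3176, given the identification of the simple groups. -/
theorem reduced {F : Type v} [Field F] [Fintype F] (hF : Fintype.card F = 16) (S : Sylow 2 G)
    (P : Sylow 2 (Cfsg.PSU 3 F 4))
    (hS : Nonempty (↥(S : Subgroup G) ≃* ↥(P : Subgroup (Cfsg.PSU 3 F 4))))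
    (hO : oddCore G = ⊥) (hO' : ∀ N : Subgroup G, N.Normal → Odd N.index → N = ⊤)
    (hiso : IsSimpleGroup G → CfsgLib.SuzukiTwo.Sixty (S : Subgroup G) → Nonempty (G ≃* Cfsg.PSU 3 F 4)) :
    Nonempty (G ≃* Cfsg.PSU 3 F 4) ∨ (S : Subgroup G) = ⊤ := by
  obtain ⟨e⟩ := hS
  have h : RConf S := ⟨CfsgLib.PiClosedTwo.sixty_of_equiv (CfsgLib.SuzukiTwo.sixty hF P) e.symm, hO, hO'⟩
  exact h.simple_or_top.imp_left fun hs => hiso hs h.hs

end CfsgLib.U34Char
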