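import Cfsg.Agent.Lib.U34Char.CentFour

/-!
The group induced on `S ⧸ Z` by the centralizer of the four-group in `N(S)` is trivial or of order five.
-/

set_option autoImplicit false
set_option linter.unusedSectionVars false
set_option linter.style.haveILetI false

namespace CfsgLib.U34Char

open Subgroup Cfsg CfsgLib.HallE8 CfsgLib.ZCReduction CfsgLib.PiClosedTwo
open CfsgLib.PiClosedTwo.Two (frameHom frameHom_apply)
open scoped commutatorElement

universe u

variable {G : Type u} [Group G] [Finite G]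

theorem baseGrp_le (S : Sylow 2 G) : baseGrp S ≤ normalizer ((S : Subgroup G) : Set G) := inf_le_left

/-- The action on the frame. -/
noncomputable def baseHom (S : Sylow 2 G) :
    baseGrp S →* MulAut ((S : Subgroup G) ⧸ center (S : Subgroup G)) :=
  frameHom S (baseGrp_le S)

/-- The centralizer of the four-group in `N(S)` acts on `S` by inner automorphisms up to the four-group. -/
def Inner (S : Sylow 2 G) : Prop :=
  ∀ n ∈ baseGrp S, ∀ s ∈ (S : Subgroup G), n * s * n⁻¹ * s⁻¹ ∈ four S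

/-- An element inducing an automorphism of order five. -/
structure Five (S : Sylow 2 G) (f : G) : Prop where
  mem : f ∈ baseGrp S
  ord : ∃ k, orderOf f = 5 ^ k
  free : ∀ j : ℕ, ¬ 5 ∣ j → ∀ s ∈ (S : Subgroup G), s ∉ four S → f ^ j * s * (f ^ j)⁻¹ * s⁻¹ ∉ four S
  five_comm : ∀ s ∈ (S : Subgroup G), f ^ 5 * s = s * f ^ 5
  five_mem : ∀ a ∈ four S, a ≠ 1 → f ^ 5 ∈ theta a
  decomp : ∀ a ∈ four S, a ≠ 1 → ∀ g ∈ centralizer ({a} : Set G),
    ∃ o ∈ theta a, ∃ j < 5, ∃ s ∈ (S : Subgroup G), g = o * f ^ j * s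
  trans : ∀ u ∈ (S : Subgroup G), u ∉ four S → ∀ u' ∈ (S : Subgroup G), u' * u' = u * u →
    ∃ n ∈ baseGrp S, n * u * n⁻¹ = u'

namespace Conf

variable {S : Sylow 2 G}

theorem mk_eq_mk (h : Conf S) {x y : (S : Subgroup G)} :
    (QuotientGroup.mk x : (S : Subgroup G) ⧸ center (S : Subgroup G)) = QuotientGroup.mk y ↔
      (x : G) * (y : G)⁻¹ ∈ four S := by
  rw [eq_comm, QuotientGroup.eq, h.center_iff]
  constructor
  · intro e
    have e' : (y : G)⁻¹ * x ∈ four S := e
    have := h.four_comm e' (inv_mem y.2)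
    rw [show (x : G) * (y : G)⁻¹ = y * ((y : G)⁻¹ * x * (y : G)⁻¹) by group, this]
    simpa [mul_assoc] using e'
  · intro e
    show (y : G)⁻¹ * x ∈ four S
    have := h.four_comm e y.2
    rw [show (y : G)⁻¹ * x = (y : G)⁻¹ * ((x : G) * (y : G)⁻¹ * y) by group, this]
    simpa [mul_assoc] using e

theorem frame_fix (h : Conf S) {L : Subgroup G} (hL : L ≤ normalizer ((S : Subgroup G) : Set G)) {l : L}
    {s : G} (hs : s ∈ (S : Subgroup G)) :
    frameHom S hL l (QuotientGroup.mk ⟨s, hs⟩) = QuotientGroup.mk ⟨s, hs⟩ ↔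
      (l : G) * s * (l : G)⁻¹ * s⁻¹ ∈ four S := by
  rw [frameHom_apply, h.mk_eq_mk]

theorem base_sylow (h : Conf S) {l : baseGrp S} (hl : (l : G) ∈ (S : Subgroup G)) : baseHom S l = 1 := by
  refine MulEquiv.ext fun q => ?_
  obtain ⟨⟨s, hs⟩, rfl⟩ := QuotientGroup.mk'_surjective _ q
  exact (h.frame_fix _ hs).mpr (h.comm_mem hl hs)

theorem base_cent (h : Conf S) {l : baseGrp S} (hl : ∀ s ∈ (S : Subgroup G), (l : G) * s = s * l) :
    baseHom S l = 1 := by
  refine MulEquiv.ext fun q => ?_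
  obtain ⟨⟨s, hs⟩, rfl⟩ := QuotientGroup.mk'_surjective _ q
  refine (h.frame_fix _ hs).mpr ?_
  rw [hl s hs, mul_inv_cancel_right, mul_inv_cancel]
  exact one_mem _

theorem base_triv (h : Conf S) {l : baseGrp S} {s : G} (hs : s ∈ (S : Subgroup G)) (hsV : s ∉ four S)
    (hfix : (l : G) * s * (l : G)⁻¹ * s⁻¹ ∈ four S) : baseHom S l = 1 := by
  obtain ⟨t, ht, c, hc, e⟩ := h.exists_inner l.2 hs hsV hfix
  have htb : t ∈ baseGrp S := h.sylow_le_base ht
  have hcb : c ∈ baseGrp S := by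
    have := mul_mem (inv_mem htb) l.2
    rwa [e, inv_mul_cancel_left] at this
  rw [show l = ⟨t, htb⟩ * ⟨c, hcb⟩ from Subtype.ext e, map_mul, h.base_sylow ht,
    h.base_cent (l := ⟨c, hcb⟩) fun s hs => (mem_centralizer_iff.mp hc s hs).symm, one_mul]

theorem base_eq_one (h : Conf S) {l : baseGrp S} (hl : baseHom S l = 1) {s : G} (hs : s ∈ (S : Subgroup G)) :
    (l : G) * s * (l : G)⁻¹ * s⁻¹ ∈ four S :=
  (h.frame_fix _ hs).mp (by
    show baseHom S l (QuotientGroup.mk ⟨s, hs⟩) = _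
    rw [hl]; rfl)

/-- The square of a coset. -/
noncomputable def sqv (q : (S : Subgroup G) ⧸ center (S : Subgroup G)) : G := (q.out : G) * q.out

theorem sqv_mk (h : Conf S) (s : (S : Subgroup G)) :
    sqv (QuotientGroup.mk s : (S : Subgroup G) ⧸ center (S : Subgroup G)) = (s : G) * s := by
  set r := (QuotientGroup.mk s : (S : Subgroup G) ⧸ center (S : Subgroup G)).out with hr
  have h1 : (r : G) * (s : G)⁻¹ ∈ four S := h.mk_eq_mk.mp (QuotientGroup.out_eq' _)
  set d := (r : G) * (s : G)⁻¹ with hd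
  show (r : G) * r = _
  have e : (r : G) = d * s := by rw [hd, inv_mul_cancel_right]
  rw [e]
  calc d * s * (d * s) = d * (s * d) * s := by group
    _ = d * (d * s) * s := by rw [h.four_comm h1 s.2]
    _ = d * d * (s * s) := by group
    _ = _ := by rw [h.four_sq h1, one_mul]

theorem sqv_frame (h : Conf S) {L : Subgroup G} (hL : L ≤ normalizer ((S : Subgroup G) : Set G)) (l : L)
    (q : (S : Subgroup G) ⧸ center (S : Subgroup G)) :
    sqv (frameHom S hL l q) = (l : G) * sqv q * (l : G)⁻¹ := by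
  obtain ⟨s, rfl⟩ := QuotientGroup.mk'_surjective _ q
  show sqv (frameHom S hL l (QuotientGroup.mk s)) = (l : G) * sqv (QuotientGroup.mk s) * (l : G)⁻¹
  rw [frameHom_apply, h.sqv_mk, h.sqv_mk]
  show (l : G) * s * (l : G)⁻¹ * ((l : G) * s * (l : G)⁻¹) = _
  group

theorem sqv_mem (h : Conf S) (q : (S : Subgroup G) ⧸ center (S : Subgroup G)) : sqv q ∈ four S :=
  h.sq_mem q.out.2

theorem sqv_eq_one (h : Conf S) (q : (S : Subgroup G) ⧸ center (S : Subgroup G)) : sqv q = 1 ↔ q = 1 := by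
  constructor
  · intro e
    rw [← q.out_eq']
    exact (QuotientGroup.eq_one_iff _).mpr ((h.center_iff _).mpr (h.mem_four_of_sq q.out.2 e))
  · rintro rfl
    rw [← QuotientGroup.mk_one, h.sqv_mk]
    simp

/-- Each involution of `S` has five square roots modulo the four-group. -/
theorem card_fibre (h : Conf S) {a : G} (ha : a ∈ four S) (ha1 : a ≠ 1) :
    Nat.card {q : (S : Subgroup G) ⧸ center (S : Subgroup G) // sqv q = a} = 5 := by
  classical
  set Q := (S : Subgroup G) ⧸ center (S : Subgroup G)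
  have hQ : Nat.card Q = 16 := by
    have := card_eq_card_quotient_mul_card_subgroup (center (S : Subgroup G))
    rw [h.hs.card, h.hs.card_center] at this
    show Nat.card ((S : Subgroup G) ⧸ center (S : Subgroup G)) = 16
    omega
  let f : {q : Q // q ≠ 1} → {v : four S // v ≠ 1} := fun q =>
    ⟨⟨sqv q.1, h.sqv_mem q.1⟩, fun e => q.2 ((h.sqv_eq_one q.1).mp (congrArg Subtype.val e))⟩
  have hfib : ∀ v : {v : four S // v ≠ 1},
      Nat.card {q : {q : Q // q ≠ 1} // f q = v} = Nat.card {q : Q // sqv q = (v.1 : G)} := fun v =>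
    Nat.card_congr
      { toFun := fun q => ⟨q.1.1, congrArg (fun w : {v : four S // v ≠ 1} => (w.1 : G)) q.2⟩
        invFun := fun q => ⟨⟨q.1, fun e => v.2 (Subtype.ext (q.2.symm.trans ((h.sqv_eq_one _).mpr e)))⟩,
          Subtype.ext (Subtype.ext q.2)⟩
        left_inv := fun q => rfl
        right_inv := fun q => rfl }
  have heq : ∀ v : {v : four S // v ≠ 1}, Nat.card {q : Q // sqv q = (v.1 : G)} = Nat.card {q : Q // sqv q = a} := by
    intro v
    obtain ⟨n, hn, hnv⟩ := h.exists_conj_four v.1.2 (fun e => v.2 (Subtype.ext e)) ha ha1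
    let σ := (frameHom S (le_refl (normalizer ((S : Subgroup G) : Set G))) ⟨n, hn⟩).toEquiv
    refine Nat.card_congr (σ.subtypeEquiv fun q => ?_)
    show sqv q = _ ↔ sqv (frameHom S (le_refl _) ⟨n, hn⟩ q) = a
    rw [h.sqv_frame, ← hnv]
    exact ⟨fun e => by rw [e], fun e => mul_left_cancel (mul_right_cancel e)⟩
  haveI := Fintype.ofFinite {v : four S // v ≠ 1}
  have h15 : Nat.card {q : Q // q ≠ 1} = Fintype.card {v : four S // v ≠ 1} * Nat.card {q : Q // sqv q = a} := by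
    rw [← Nat.card_congr (Equiv.sigmaFiberEquiv f), Nat.card_sigma]
    simp only [hfib, heq, Finset.sum_const, Finset.card_univ, smul_eq_mul]
  have hX : Nat.card {q : Q // q ≠ 1} = 15 := by
    haveI := Fintype.ofFinite Q
    rw [Nat.card_eq_fintype_card, Fintype.card_subtype_compl, ← Nat.card_eq_fintype_card, hQ]
    simp
  have hY : Fintype.card {v : four S // v ≠ 1} = 3 := by
    haveI := Fintype.ofFinite (four S)
    rw [← Nat.card_eq_fintype_card, Nat.card_eq_fintype_card (α := {v : four S // v ≠ 1}),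
      Fintype.card_subtype_compl, ← Nat.card_eq_fintype_card, h.card_four]
    simp
  rw [hX, hY] at h15
  show Nat.card {q : Q // sqv q = a} = 5
  omega

theorem card_range (h : Conf S) : Nat.card (baseHom S).range ∣ 5 := by
  obtain ⟨a, ha, ha1⟩ := h.exists_ne_one
  set R := (baseHom S).range
  let Q := (S : Subgroup G) ⧸ center (S : Subgroup G)
  let X := {q : Q // sqv q = a}
  have hpres : ∀ r ∈ R, ∀ q : Q, sqv q = a → sqv (r q) = a := by
    rintro _ ⟨l, rfl⟩ q e
    show sqv (baseHom S l q) = a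
    rw [baseHom, h.sqv_frame, e, ← mem_centralizer_iff.mp l.2.2 a ha, mul_inv_cancel_right]
  letI : MulAction R X :=
    { smul := fun r q => ⟨(r : MulAut Q) q.1, hpres r r.2 q.1 q.2⟩
      one_smul := fun q => rfl
      mul_smul := fun r r' q => rfl }
  have hfree : ∀ x : X, MulAction.stabilizer R x = ⊥ := fun x => (eq_bot_iff_forall _).mpr fun r hr => by
    obtain ⟨l, e⟩ := r.2
    obtain ⟨⟨s, hs⟩, hse⟩ := QuotientGroup.mk'_surjective _ x.1
    have h1 : (r : MulAut Q) x.1 = x.1 := congrArg Subtype.val (MulAction.mem_stabilizer_iff.mp hr)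
    rw [← e, ← hse] at h1
    refine Subtype.ext (e.symm.trans (h.base_triv hs (fun hsV => ha1 ?_) ((h.frame_fix _ hs).mp h1)))
    rw [← x.2, ← hse]
    exact (h.sqv_mk _).trans (h.four_sq hsV)
  have e1 := Nat.card_congr (MulAction.selfEquivSigmaOrbitsQuotientStabilizer R X)
  have e2 : ∀ w : MulAction.orbitRel.Quotient R X, (R ⧸ MulAction.stabilizer R (Quotient.out w)) ≃ R :=
    fun w => (Subgroup.quotientEquivOfEq (hfree _)).trans QuotientGroup.quotientBot.toEquiv
  rw [Nat.card_congr ((Equiv.sigmaCongrRight e2).trans (Equiv.sigmaEquivProd _ _)), Nat.card_prod,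
    h.card_fibre ha ha1] at e1
  exact ⟨_, e1.trans (mul_comm _ _)⟩

/-- **The dichotomy.** -/
theorem inner_or_five (h : Conf S) : Inner S ∨ ∃ f, Five S f := by
  classical
  by_cases hall : ∀ l : baseGrp S, baseHom S l = 1
  · exact Or.inl fun n hn s hs => h.base_eq_one (hall ⟨n, hn⟩) hs
  refine Or.inr ?_
  push Not at hall
  obtain ⟨g, hg⟩ := hall
  haveI : Fact (Nat.Prime 5) := ⟨Nat.prime_five⟩
  have hR5 : Nat.card (baseHom S).range = 5 :=
    ((Nat.dvd_prime Nat.prime_five).mp h.card_range).resolve_left fun e =>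
      hg (mem_bot.mp (card_eq_one.mp e ▸ MonoidHom.mem_range.mpr ⟨g, rfl⟩))
  have hgo : orderOf (baseHom S g) = 5 := by
    refine ((Nat.dvd_prime Nat.prime_five).mp ?_).resolve_left fun e => hg (orderOf_eq_one_iff.mp e)
    exact hR5 ▸ Subgroup.orderOf_dvd_natCard _ (MonoidHom.mem_range.mpr ⟨g, rfl⟩)
  obtain ⟨e5, r5, hr5, he5⟩ := Nat.exists_eq_pow_mul_and_not_dvd (orderOf_pos g).ne' 5 (by norm_num)
  obtain ⟨x, -, hxd, hxe⟩ := exists_part (baseHom S) g (a := r5) (b := 5 ^ e5) (he5.trans (mul_comm _ _))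
    ((Nat.Coprime.pow_left e5 (Nat.prime_five.coprime_iff_not_dvd.mpr hr5)).symm)
    (by rw [hgo]; exact Nat.prime_five.coprime_iff_not_dvd.mpr hr5)
  obtain ⟨k, -, hk⟩ := (Nat.dvd_prime_pow Nat.prime_five).mp hxd
  have hxo : orderOf (baseHom S x) = 5 := hxe ▸ hgo
  have hord : orderOf (x : G) = 5 ^ k := by rw [Subgroup.orderOf_coe, hk]
  have hfree : ∀ j : ℕ, ¬ 5 ∣ j → ∀ s ∈ (S : Subgroup G), s ∉ four S →
      (x : G) ^ j * s * ((x : G) ^ j)⁻¹ * s⁻¹ ∉ four S := by
    intro j hj s hs hsV hfix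
    refine hj (hxo ▸ orderOf_dvd_of_pow_eq_one ?_)
    rw [← map_pow]
    exact h.base_triv (l := x ^ j) hs hsV (by rw [Subgroup.coe_pow]; exact hfix)
  have hodd : Odd (orderOf ((x : G) ^ 5)) :=
    Odd.of_dvd_nat (hord ▸ (by decide : Odd 5).pow) (orderOf_pow_dvd _)
  have h5 : baseHom S (x ^ 5) = 1 := by rw [map_pow, ← hxo, pow_orderOf_eq_one]
  have hfive : ∀ s ∈ (S : Subgroup G), (x : G) ^ 5 * s = s * (x : G) ^ 5 := by
    obtain ⟨u, hu, huV⟩ := h.exists_noncentral
    have h1 : (x : G) ^ 5 * u * ((x : G) ^ 5)⁻¹ * u⁻¹ ∈ four S := by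
      have := h.base_eq_one h5 hu
      rwa [Subgroup.coe_pow] at this
    have h2 := h.cent_of_fix_coset (pow_mem x.2.1 5) (pow_mem x.2.2 5) hodd hu huV h1
    exact fun s hs => (mem_centralizer_iff.mp h2 s hs).symm
  refine ⟨x, x.2, ⟨k, hord⟩, hfree, hfive, fun a ha ha1 => h.odd_cent_mem
    (mem_centralizer_iff.mpr fun s hs => (hfive s hs).symm) hodd ha ha1, ?_, ?_⟩
  · intro a ha ha1 g' hg'
    obtain ⟨o, ho, n, hn, rfl⟩ := h.cent_base ha ha1 hg'
    have hmem : baseHom S ⟨n, hn⟩ ∈ zpowers (baseHom S x) := by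
      have e : zpowers (baseHom S x) = (baseHom S).range := eq_of_le_of_card_ge
        (zpowers_le.mpr ⟨x, rfl⟩) (by rw [Nat.card_zpowers, hxo, hR5])
      exact e ▸ MonoidHom.mem_range.mpr ⟨_, rfl⟩
    obtain ⟨i, hi⟩ := mem_powers_iff_mem_zpowers.mpr hmem
    set j := i % 5
    have hj : baseHom S x ^ j = baseHom S ⟨n, hn⟩ := by
      rw [show j = i % orderOf (baseHom S x) by rw [hxo], pow_mod_orderOf]
      exact hi
    obtain ⟨u, hu, huV⟩ := h.exists_noncentral
    set l : baseGrp S := ⟨n, hn⟩ * (x ^ j)⁻¹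
    have hl : baseHom S l = 1 := by rw [map_mul, map_inv, map_pow, hj, mul_inv_cancel]
    obtain ⟨o', ho', t, ht, e⟩ := h.exists_core_inner l.2 hu huV (h.base_eq_one hl hu) ha ha1
    have hxj : ((x : G) ^ j) ∈ normalizer ((S : Subgroup G) : Set G) := pow_mem x.2.1 j
    refine ⟨o * o', mul_mem ho ho', j, Nat.mod_lt _ (by norm_num), ((x : G) ^ j)⁻¹ * t * (x : G) ^ j, ?_, ?_⟩
    · have := (mem_normalizer_iff.mp (inv_mem hxj) t).mp ht
      rwa [inv_inv] at this
    · have e' : n * ((x : G) ^ j)⁻¹ = o' * t := by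
        rw [← e]; simp [l]
      calc o * n = o * (n * ((x : G) ^ j)⁻¹) * (x : G) ^ j := by group
        _ = o * (o' * t) * (x : G) ^ j := by rw [e']
        _ = _ := by group
  · intro u hu huV u' hu' e
    set q : (S : Subgroup G) ⧸ center (S : Subgroup G) := QuotientGroup.mk ⟨u, hu⟩
    have ha : u * u ∈ four S := h.sq_mem hu
    have ha1 : u * u ≠ 1 := fun e0 => huV (h.mem_four_of_sq hu e0)
    let φ : Fin 5 → {q' : (S : Subgroup G) ⧸ center (S : Subgroup G) // sqv q' = u * u} := fun j =>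
      ⟨baseHom S (x ^ (j : ℕ)) q, by
        rw [baseHom, h.sqv_frame, h.sqv_mk, ← mem_centralizer_iff.mp (x ^ (j : ℕ)).2.2 _ ha,
          mul_inv_cancel_right]⟩
    have hinj : Function.Injective φ := by
      intro i j eij
      by_contra hne
      obtain ⟨p, r, hpr, epr⟩ : ∃ p r : Fin 5, (p : ℕ) < r ∧ φ p = φ r := by
        rcases lt_or_gt_of_ne (fun e0 => hne (Fin.ext e0) : (i : ℕ) ≠ j) with hl | hl
        exacts [⟨i, j, hl, eij⟩, ⟨j, i, hl, eij.symm⟩]
      refine hfree ((r : ℕ) - p) (fun hd => ?_) u hu huV ?_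
      · obtain ⟨c, hc⟩ := hd; omega
      · have e0 : baseHom S (x ^ (p : ℕ)) (baseHom S (x ^ ((r : ℕ) - p)) q) = baseHom S (x ^ (p : ℕ)) q := by
          rw [← MulAut.mul_apply, ← map_mul, ← pow_add, Nat.add_sub_cancel' hpr.le]
          exact (congrArg Subtype.val epr).symm
        have := (h.frame_fix _ hu).mp ((baseHom S (x ^ (p : ℕ))).injective e0)
        rwa [Subgroup.coe_pow] at this
    have hbij := (Nat.bijective_iff_injective_and_card φ).mpr
      ⟨hinj, by rw [h.card_fibre ha ha1, Nat.card_fin]⟩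
    obtain ⟨j, hj⟩ := hbij.2 ⟨QuotientGroup.mk ⟨u', hu'⟩, (h.sqv_mk _).trans e⟩
    have hjv : baseHom S (x ^ (j : ℕ)) q = QuotientGroup.mk ⟨u', hu'⟩ := congrArg Subtype.val hj
    rw [baseHom, frameHom_apply, h.mk_eq_mk] at hjv
    set g := ((x ^ (j : ℕ) : baseGrp S) : G) with hg'
    have hgu : g * u * g⁻¹ ∈ (S : Subgroup G) := (mem_normalizer_iff.mp (x ^ (j : ℕ)).2.1 u).mp hu
    have hguV : g * u * g⁻¹ ∉ four S := fun hh => huV (by
      have h2 := mem_centralizer_iff.mp (x ^ (j : ℕ)).2.2 _ hh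
      have h3 : g * u * g⁻¹ = u := by
        calc g * u * g⁻¹ = g⁻¹ * (g * (g * u * g⁻¹)) := by group
          _ = g⁻¹ * ((g * u * g⁻¹) * g) := by rw [h2]
          _ = u := by group
      exact h3 ▸ hh)
    obtain ⟨t, ht, htu⟩ := h.coset_conj hgu hguV hu' (by
      have := inv_mem hjv
      rwa [mul_inv_rev, inv_inv] at this)
    refine ⟨t * g, mul_mem (h.sylow_le_base ht) (x ^ (j : ℕ)).2, ?_⟩
    rw [← htu]; group

end Conf

end CfsgLib.U34Char
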