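import Cfsg.Agent.Lib.U34Char.Basic
import Cfsg.Agent.Lib.U34Char.ESixteen
import Cfsg.Agent.Lib.PiClosedTwo.Fusion
import Cfsg.Agent.Lib.ZStar.Main
import Cfsg.Agent.Lib.ZStar.CenterCentral

/-!
The centralizer of the four-group is its odd core times `N(S)`; so is, modulo the core, the centralizer of
every involution of `S`.
-/

set_option autoImplicit false
set_option linter.unusedSectionVars false
set_option linter.style.haveILetI false

namespace CfsgLib.U34Char

open Subgroup Cfsg CfsgLib.HallE8 CfsgLib.ZCReduction CfsgLib.PiClosedTwo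
open scoped commutatorElement

universe u

variable {G : Type u} [Group G] [Finite G]

/-- The elements of `N(S)` centralizing the four-group. -/
def baseGrp (S : Sylow 2 G) : Subgroup G :=
  normalizer ((S : Subgroup G) : Set G) ⊓ centralizer (four S : Set G)

/-- The odd core of the centralizer of the four-group. -/
def fourCore (S : Sylow 2 G) : Subgroup G :=
  (pPrimeCore 2 (centralizer (four S : Set G))).map (centralizer (four S : Set G)).subtype

namespace Conf

variable {S : Sylow 2 G}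

theorem sylow_le_base (h : Conf S) : (S : Subgroup G) ≤ baseGrp S := le_inf le_normalizer h.sylow_le_cent

theorem fourCore_le (_h : Conf S) : fourCore S ≤ centralizer (four S : Set G) := map_subtype_le _

theorem fourCore_odd (_h : Conf S) : ¬ 2 ∣ Nat.card (fourCore S) := fun e => by
  rw [fourCore, card_map_of_injective (subtype_injective _)] at e
  exact CfsgLib.not_dvd_card_pPrimeCore Nat.prime_two e

theorem fourCore_normalized (_h : Conf S) :
    centralizer (four S : Set G) ≤ normalizer (fourCore S : Set G) := fun g hg =>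
  CfsgLib.Comp.mem_normalizer_of_maps (by
    rintro _ ⟨w, hw, rfl⟩
    exact ⟨⟨g, hg⟩ * w * ⟨g, hg⟩⁻¹, (inferInstance : (pPrimeCore 2 _).Normal).conj_mem w hw _, rfl⟩)

/-- An element of `N(S)` centralizing the four-group and fixing a coset of it acts as an inner automorphism. -/
theorem exists_inner (h : Conf S) {n u : G} (hn : n ∈ baseGrp S) (hu : u ∈ (S : Subgroup G)) (huV : u ∉ four S)
    (hfix : n * u * n⁻¹ * u⁻¹ ∈ four S) :
    ∃ t ∈ (S : Subgroup G), ∃ c ∈ centralizer ((S : Subgroup G) : Set G), n = t * c := by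
  obtain ⟨t, ht, w, hw, ht2, hwo, e⟩ := exists_parts n
  have hle : zpowers n ≤ baseGrp S := zpowers_le.mpr hn
  have htS : t ∈ (S : Subgroup G) := mem_of_twoEl_normalizer S ht2 (hle ht).1
  refine ⟨t, htS, w, h.cent_of_fix_coset (hle hw).1 (hle hw).2 hwo hu huV ?_, e⟩
  have hwu : w * u * w⁻¹ ∈ (S : Subgroup G) := (mem_normalizer_iff.mp (hle hw).1 u).mp hu
  have h1 : t⁻¹ * (n * u * n⁻¹ * u⁻¹) * t ∈ four S :=
    (mem_normalizer_iff.mp (h.sylow_normalizer_le (le_normalizer (inv_mem htS))) _).mp hfix |> fun h => by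
      rwa [inv_inv] at h
  have h2 : ⁅t⁻¹, u⁆ ∈ four S := h.comm_mem (inv_mem htS) hu
  have e2 : w * u * w⁻¹ * u⁻¹ = (t⁻¹ * (n * u * n⁻¹ * u⁻¹) * t) * ⁅t⁻¹, u⁆ := by
    rw [e, commutatorElement_def]; group
  rw [e2]
  exact mul_mem h1 h2

/-- The centralizer of the four-group is its odd core times `N(S)`. -/
theorem cent_four_decomp (h : Conf S) {g : G} (hg : g ∈ centralizer (four S : Set G)) :
    ∃ k ∈ fourCore S, ∃ n ∈ baseGrp S, g = k * n := by
  classical
  haveI : Fact (Nat.Prime 2) := ⟨Nat.prime_two⟩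
  set C := centralizer (four S : Set G) with hCdef
  have hVC : four S ≤ C := h.four_le.trans h.sylow_le_cent
  set V := (four S).subgroupOf C
  have hVc : V ≤ center C := fun v hv => mem_center_iff.mpr fun c => Subtype.ext
    (mem_centralizer_iff.mp c.2 v hv).symm
  haveI : V.Normal := ⟨fun v hv c => by rw [mem_center_iff.mp (hVc hv) c, mul_inv_cancel_right]; exact hv⟩
  have hV2 : IsPGroup 2 V := (S.2.to_le h.four_le).comap_of_injective C.subtype C.subtype_injective
  let π := QuotientGroup.mk' V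
  set P := S.subtype h.sylow_le_cent
  let A : Sylow 2 (C ⧸ V) := P.mapSurjective (QuotientGroup.mk'_surjective V)
  have hmemA : ∀ x : C, π x ∈ (A : Subgroup (C ⧸ V)) ↔ (x : G) ∈ (S : Subgroup G) := by
    intro x
    constructor
    · rintro ⟨y, hy, e⟩
      have h1 : (y : G)⁻¹ * x ∈ four S := mem_subgroupOf.mp (QuotientGroup.eq.mp (show (y : C ⧸ V) = x from e))
      have := mul_mem (show (y : G) ∈ (S : Subgroup G) from hy) (h.four_le h1)
      rwa [mul_inv_cancel_left] at this
    · exact fun hx => mem_map_of_mem π (show x ∈ (P : Subgroup C) from hx)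
  have hlift : ∀ a ∈ (A : Subgroup (C ⧸ V)), ∃ x : C, (x : G) ∈ (S : Subgroup G) ∧ π x = a := fun a ha => by
    obtain ⟨x, hx, e⟩ := ha
    exact ⟨x, hx, e⟩
  have hone : ∀ x : C, π x = 1 ↔ (x : G) ∈ four S := fun x => QuotientGroup.eq_one_iff x
  have hnorm : ∀ x : C, π x ∈ normalizer ((A : Subgroup (C ⧸ V)) : Set (C ⧸ V)) → (x : G) ∈ baseGrp S := by
    intro x hx
    refine ⟨CfsgLib.Comp.mem_normalizer_of_maps fun s hs => ?_, x.2⟩
    have h1 := (mem_normalizer_iff.mp hx (π ⟨s, h.sylow_le_cent hs⟩)).mp ((hmemA _).mpr hs)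
    rw [← map_inv, ← map_mul, ← map_mul, hmemA] at h1
    exact h1
  have hsq : ∀ a ∈ (A : Subgroup (C ⧸ V)), a * a = 1 := by
    intro a ha
    obtain ⟨x, hx, rfl⟩ := hlift a ha
    rw [← map_mul, hone]
    exact h.sq_mem hx
  have h8 : 8 ≤ Nat.card (A : Subgroup (C ⧸ V)) := by
    let φ : (S : Subgroup G) →* C ⧸ V := π.comp (Subgroup.inclusion h.sylow_le_cent)
    have hker : φ.ker = center (S : Subgroup G) := by
      ext s
      rw [MonoidHom.mem_ker, h.center_iff]
      exact hone _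
    have hrange : φ.range = (A : Subgroup (C ⧸ V)) := by
      ext a
      constructor
      · rintro ⟨s, rfl⟩; exact (hmemA _).mpr s.2
      · intro ha
        obtain ⟨x, hx, rfl⟩ := hlift a ha
        exact ⟨⟨x, hx⟩, rfl⟩
    rw [← hrange, ← index_ker, hker]
    have h1 := (center (S : Subgroup G)).card_mul_index
    rw [h.hs.card, h.hs.card_center] at h1
    omega
  have hfix : ∀ n ∈ normalizer ((A : Subgroup (C ⧸ V)) : Set (C ⧸ V)), ∀ a ∈ (A : Subgroup (C ⧸ V)),
      a ≠ 1 → n * a = a * n → n ∈ centralizer ((A : Subgroup (C ⧸ V)) : Set (C ⧸ V)) := by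
    intro n hn a ha ha1 hna
    obtain ⟨x, rfl⟩ := QuotientGroup.mk'_surjective V n
    obtain ⟨u, hu, rfl⟩ := hlift a ha
    have h1 : π (x * u * x⁻¹ * u⁻¹) = 1 := by
      rw [map_mul, map_mul, map_mul, map_inv, map_inv, hna, mul_inv_cancel_right, mul_inv_cancel]
    obtain ⟨t, ht, c, hc, e⟩ := h.exists_inner (hnorm x hn) hu
      (fun e => ha1 ((hone u).mpr e)) ((hone _).mp h1)
    refine mem_centralizer_iff.mpr fun b hb => ?_
    obtain ⟨s, hs, rfl⟩ := hlift b hb
    have h2 : π (s * x * s⁻¹ * x⁻¹) = 1 := by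
      rw [hone]
      show (s : G) * x * (s : G)⁻¹ * (x : G)⁻¹ ∈ four S
      have hcs : (s : G) * c = c * s := mem_centralizer_iff.mp hc s hs
      have e2 : c * (s : G)⁻¹ = (s : G)⁻¹ * c := (show Commute (s : G) c from hcs).inv_left.eq.symm
      rw [e, show (s : G) * (t * c) * (s : G)⁻¹ * (t * c)⁻¹ = (s : G) * t * (c * (s : G)⁻¹) * c⁻¹ * t⁻¹ by group, e2,
        show (s : G) * t * ((s : G)⁻¹ * c) * c⁻¹ * t⁻¹ = ⁅(s : G), t⁆ by rw [commutatorElement_def]; group]
      exact h.comm_mem hs ht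
    rw [map_mul, map_mul, map_mul, map_inv, map_inv, mul_inv_eq_one, mul_inv_eq_iff_eq_mul] at h2
    exact h2
  have horb : ∃ a ∈ (A : Subgroup (C ⧸ V)), a ≠ 1 ∧ ∃ b ∈ (A : Subgroup (C ⧸ V)), b ≠ 1 ∧
      ∀ n ∈ normalizer ((A : Subgroup (C ⧸ V)) : Set (C ⧸ V)), n * a * n⁻¹ ≠ b := by
    obtain ⟨u, hu, huV⟩ := h.exists_noncentral
    obtain ⟨y, hy, -, hmove⟩ := h.exists_mover
    have huC := h.sylow_le_cent hu
    have hyu : y * u * y⁻¹ ∈ (S : Subgroup G) := (mem_normalizer_iff.mp hy u).mp hu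
    refine ⟨π ⟨u, huC⟩, (hmemA _).mpr hu, fun e => huV ((hone _).mp e), π ⟨y * u * y⁻¹, h.sylow_le_cent hyu⟩,
      (hmemA _).mpr hyu, fun e => huV ?_, fun n hn e => ?_⟩
    · exact (mem_normalizer_iff.mp (h.sylow_normalizer_le hy) u).mpr ((hone _).mp e)
    · obtain ⟨x, rfl⟩ := QuotientGroup.mk'_surjective V n
      rw [← map_inv, ← map_mul, ← map_mul] at e
      have h1 : ((x : G) * u * (x : G)⁻¹)⁻¹ * (y * u * y⁻¹) ∈ four S := mem_subgroupOf.mp (QuotientGroup.eq.mp
        (show ((x * ⟨u, huC⟩ * x⁻¹ : C) : C ⧸ V) = (⟨y * u * y⁻¹, h.sylow_le_cent hyu⟩ : C) from e))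
      set p := (x : G) * u * (x : G)⁻¹ with hp
      set q := y * u * y⁻¹ with hq
      have hpS : p ∈ (S : Subgroup G) := (mem_normalizer_iff.mp (hnorm x hn).1 u).mp hu
      set d := p⁻¹ * q with hd
      have hpq : q * q = p * p := by
        have hdp : d * p = p * d := h.four_comm h1 hpS
        calc q * q = p * (d * p) * d := by rw [hd]; group
          _ = p * p * (d * d) := by rw [hdp]; group
          _ = p * p := by rw [h.four_sq h1, mul_one]
      have hV : u * u ∈ four S := h.sq_mem hu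
      refine hmove _ hV (fun e0 => huV (h.mem_four_of_sq hu e0)) ?_
      calc y * (u * u) * y⁻¹ = q * q := by rw [hq]; group
        _ = p * p := hpq
        _ = (x : G) * (u * u) * (x : G)⁻¹ := by rw [hp]; group
        _ = u * u := by rw [← mem_centralizer_iff.mp x.2 _ hV, mul_inv_cancel_right]
  obtain ⟨o, ho, n, hn, e⟩ := split_of_semiregular A hsq h8 hfix horb (π ⟨g, hg⟩)
  obtain ⟨o', rfl⟩ := QuotientGroup.mk'_surjective V o
  obtain ⟨v, hv, k, hk, hv2, hko, eo⟩ := exists_parts o'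
  have hle : zpowers o' ≤ (pPrimeCore 2 (C ⧸ V)).comap π := zpowers_le.mpr ho
  have hvV : (v : G) ∈ four S := by
    rw [← hone]
    obtain ⟨i, hi⟩ := hv2
    refine orderOf_eq_one_iff.mp (Nat.eq_one_of_dvd_coprimes ?_ ((orderOf_map_dvd π v).trans (dvd_of_eq hi))
      (Subgroup.orderOf_dvd_natCard _ (show π v ∈ pPrimeCore 2 _ from hle hv)))
    exact ((CfsgLib.card_pPrimeCore_coprime 2).symm).pow_left i
  have hkcore : k ∈ pPrimeCore 2 C := by
    set K := (pPrimeCore 2 (C ⧸ V)).comap π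
    have hKc : HasNormalPComplement 2 K := by
      obtain ⟨T⟩ := (inferInstance : Nonempty (Sylow 2 K))
      refine CfsgLib.hasNormalPComplement_of_normalizer_le_centralizer T fun c _ s hs => ?_
      obtain ⟨j, hj⟩ := IsPGroup.iff_orderOf.1 T.2 (⟨s, hs⟩ : (T : Subgroup K))
      have h1 : π (s : C) = 1 := by
        refine orderOf_eq_one_iff.mp (Nat.eq_one_of_dvd_coprimes (a := 2 ^ j)
          (((CfsgLib.card_pPrimeCore_coprime 2).symm).pow_left j) ?_ (Subgroup.orderOf_dvd_natCard _ s.2))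
        rw [← hj, Subgroup.orderOf_mk, ← Subgroup.orderOf_coe]
        exact orderOf_map_dvd π (s : C)
      exact Subtype.ext ((mem_center_iff.1 (hVc ((QuotientGroup.eq_one_iff _).1 h1)) (c : C)).symm)
    have hmem : (⟨k, hle hk⟩ : K) ∈ pPrimeCore 2 K := CfsgLib.mem_pPrimeCore_of_hasNormalPComplement hKc
      (by rw [Subgroup.orderOf_mk]; exact Nat.coprime_two_right.2 hko)
    haveI : K.Normal := Subgroup.Normal.comap inferInstance _
    exact CfsgLib.ZStar.map_pPrimeCore_le_of_normal K ⟨_, hmem, rfl⟩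
  obtain ⟨n', rfl⟩ := QuotientGroup.mk'_surjective V n
  rw [← map_mul] at e
  obtain ⟨w, hw, ew⟩ : ∃ w ∈ four S, g = (o' : G) * n' * w := by
    have h1 : ((o' * n' : C) : G)⁻¹ * g ∈ four S := mem_subgroupOf.mp (QuotientGroup.eq.mp
      (show ((o' * n' : C) : C ⧸ V) = (⟨g, hg⟩ : C) from e.symm))
    exact ⟨_, h1, by rw [Subgroup.coe_mul]; group⟩
  refine ⟨k, mem_map_of_mem _ hkcore, v * n' * w, mul_mem (mul_mem ?_ (hnorm n' hn)) ?_, ?_⟩
  · exact h.sylow_le_base (h.four_le hvV)
  · exact h.sylow_le_base (h.four_le hw)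
  · have hvk : (v : G) * k = k * v := mem_centralizer_iff.mp k.2 _ hvV
    rw [ew, eo, Subgroup.coe_mul, hvk]
    group

/-- `C(a) = θ(a) C(Z)`. -/
theorem cent_split (h : Conf S) {a : G} (ha : a ∈ four S) (ha1 : a ≠ 1) {g : G}
    (hg : g ∈ centralizer ({a} : Set G)) :
    ∃ o ∈ theta a, ∃ c ∈ centralizer (four S : Set G), g = o * c := by
  haveI : Fact (Nat.Prime 2) := ⟨Nat.prime_two⟩
  set C := centralizer ({a} : Set G)
  have hSC : (S : Subgroup G) ≤ C := fun s hs => mem_cent_of_commute (h.four_comm ha hs).symm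
  set P := S.subtype hSC
  set V := (four S).subgroupOf C
  have hVC : four S ≤ C := h.four_le.trans hSC
  have hz : ∀ c ∈ V, InZStar 2 c := by
    intro c hc
    by_cases hc1 : c = 1
    · subst hc1
      intro x
      simp [one_mem]
    have hcv : (c : G) ∈ four S := hc
    have hc1' : (c : G) ≠ 1 := fun e => hc1 (Subtype.ext e)
    have ho : orderOf c = 2 := by
      rw [← Subgroup.orderOf_coe]
      exact (h.four_cases hcv hc1').2.1.orderOf_eq
    refine CfsgLib.ZStar.inZStar ho (CfsgLib.ZStar.isolated_of_sylow P ho (h.four_le hcv) fun x hx => ?_)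
    set w := x * c * x⁻¹ with hw
    have hwv : (w : G) ∈ four S := h.mem_four_of_sq hx (by
      rw [hw]; push_cast
      rw [show (x : G) * c * (x : G)⁻¹ * (x * c * (x : G)⁻¹) = x * ((c : G) * c) * (x : G)⁻¹ by group,
        h.four_sq hcv]; group)
    have hcen : ∀ d : C, (d : G) ∈ four S → d ≠ 1 → IsCentInv P d := fun d hd hd1 =>
      ⟨h.four_le hd, ⟨hd1, Subtype.ext (h.four_sq hd)⟩, fun s hs => Subtype.ext (h.four_comm hd hs)⟩
    obtain ⟨d, hd, hn⟩ := exists_cent_mul_normalizer P (hcen c hcv hc1)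
      (hcen w hwv fun e => hc1 (conj_eq_one_iff.mp (hw ▸ e))) hw.symm
    have hnS : ((d * x : C) : G) ∈ normalizer ((S : Subgroup G) : Set G) :=
      CfsgLib.Comp.mem_normalizer_of_maps fun s hs =>
        (mem_normalizer_iff.mp hn ⟨s, hSC hs⟩).mp hs
    have h1 := h.normalizer_fix hnS ha ha1 (commute_of_mem_cent (d * x).2)
    have h2 : ((d * x : C) : G) * c * ((d * x : C) : G)⁻¹ = c := by
      rw [← mem_centralizer_iff.mp h1 c hcv, mul_inv_cancel_right]
    have h3 : d * w = w * d := commute_of_mem_cent hd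
    calc w = d * w * d⁻¹ := by rw [h3, mul_inv_cancel_right]
      _ = (d * x) * c * (d * x)⁻¹ := by rw [hw]; group
      _ = c := Subtype.ext h2
  obtain ⟨o, ho, c, hc, e⟩ := CfsgLib.ZStarCenter.exists_split V
    ((S.2.to_le h.four_le).comap_of_injective C.subtype C.subtype_injective) hz ⟨g, hg⟩
  refine ⟨o, mem_map_of_mem _ ho, c, mem_centralizer_iff.mpr fun v hv => ?_, congrArg Subtype.val e⟩
  exact congrArg Subtype.val (mem_centralizer_iff.mp hc ⟨v, hVC hv⟩ hv)

theorem fourCore_le_theta (h : Conf S) {a : G} (ha : a ∈ four S) (ha1 : a ≠ 1) : fourCore S ≤ theta a := by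
  haveI : Fact (Nat.Prime 2) := ⟨Nat.prime_two⟩
  set C := centralizer ({a} : Set G)
  have hKC : fourCore S ≤ C := h.fourCore_le.trans fun x hx =>
    mem_cent_of_commute (mem_centralizer_iff.mp hx a ha).symm
  have hn : fourCore S ≤ normalizer (theta a : Set G) := hKC.trans (theta_normalized a)
  set O := theta a ⊔ fourCore S
  have hOC : O ≤ C := sup_le (theta_le_cent a) hKC
  have hodd : ¬ 2 ∣ Nat.card O := fun e => by
    rcases Nat.prime_two.dvd_mul.mp (e.trans (card_sup_mul hn ▸ dvd_mul_right _ _)) with e' | e'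
    · exact not_two_dvd_theta a e'
    · exact h.fourCore_odd e'
  haveI : (O.subgroupOf C).Normal := by
    refine ⟨fun x hx g => ?_⟩
    obtain ⟨o, ho, c, hc, e⟩ := h.cent_split ha ha1 g.2
    show (g : G) * x * (g : G)⁻¹ ∈ O
    have hx' : (x : G) ∈ O := hx
    have hcC : c ∈ C := mem_cent_of_commute (mem_centralizer_iff.mp hc a ha).symm
    have hcx : c * x * c⁻¹ ∈ O := by
      rw [← SetLike.mem_coe, coe_mul_of_right_le_normalizer_left _ _ hn] at hx'
      obtain ⟨r, hr, k, hk, e'⟩ := hx'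
      rw [← e']
      show c * (r * k) * c⁻¹ ∈ O
      rw [show c * (r * k) * c⁻¹ = c * r * c⁻¹ * (c * k * c⁻¹) by group]
      exact mul_mem (mem_sup_left ((mem_normalizer_iff.mp (theta_normalized a hcC) r).mp hr))
        (mem_sup_right ((mem_normalizer_iff.mp (h.fourCore_normalized hc) k).mp hk))
    rw [e, show o * c * x * (o * c)⁻¹ = o * (c * x * c⁻¹) * o⁻¹ by group]
    exact mul_mem (mul_mem (mem_sup_left ho) hcx) (inv_mem (mem_sup_left ho))
  intro x hx
  refine ⟨⟨x, hKC hx⟩, CfsgLib.le_pPrimeCore (N := O.subgroupOf C) ?_ (mem_sup_right hx : x ∈ O), rfl⟩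
  rw [Nat.card_congr (subgroupOfEquivOfLe hOC).toEquiv]
  exact (Nat.prime_two.coprime_iff_not_dvd.mpr hodd).symm

/-- The centralizer of an involution of `S` is its core times `N(S) ∩ C(Z)`. -/
theorem cent_base (h : Conf S) {a : G} (ha : a ∈ four S) (ha1 : a ≠ 1) {g : G}
    (hg : g ∈ centralizer ({a} : Set G)) : ∃ o ∈ theta a, ∃ n ∈ baseGrp S, g = o * n := by
  obtain ⟨o, ho, c, hc, rfl⟩ := h.cent_split ha ha1 hg
  obtain ⟨k, hk, n, hn, rfl⟩ := h.cent_four_decomp hc
  exact ⟨o * k, mul_mem ho (h.fourCore_le_theta ha ha1 hk), n, hn, (mul_assoc _ _ _).symm⟩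

/-- Balance for the involutions of the four-group. -/
theorem balance (h : Conf S) {a b : G} (ha : a ∈ four S) (ha1 : a ≠ 1) (hb : b ∈ four S) (hb1 : b ≠ 1)
    {x : G} (hx : x ∈ theta a) (hxb : x * b = b * x) : x ∈ theta b := by
  haveI : Fact (Nat.Prime 2) := ⟨Nat.prime_two⟩
  by_cases hab : a = b
  · exact hab ▸ hx
  set C := centralizer (four S : Set G)
  have hxC : x ∈ C := by
    refine mem_centralizer_iff.mpr fun v hv => ?_
    by_cases hv1 : v = 1
    · rw [hv1, one_mul, mul_one]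
    have hxa := commute_of_mem_cent (theta_le_cent a hx)
    by_cases hva : v = a
    · rw [hva]; exact hxa.symm
    by_cases hvb : v = b
    · rw [hvb]; exact hxb.symm
    have hvab : v = a * b := by
      classical
      by_contra hne
      have hab1 : a * b ≠ 1 := fun e => hab ((eq_inv_of_mul_eq_one_left e).trans
        (inv_eq_of_mul_eq_one_right (h.four_sq hb)))
      have hsub : ({1, a, b, a * b, v} : Finset G) ⊆ (Set.toFinite (four S : Set G)).toFinset := by
        intro z hz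
        simp only [Finset.mem_insert, Finset.mem_singleton] at hz
        rw [Set.Finite.mem_toFinset]
        rcases hz with rfl | rfl | rfl | rfl | rfl
        exacts [one_mem _, ha, hb, mul_mem ha hb, hv]
      have hc := Finset.card_le_card hsub
      rw [← Set.ncard_eq_toFinset_card, ← Nat.card_coe_set_eq, SetLike.coe_sort_coe, h.card_four] at hc
      rw [Finset.card_insert_of_notMem (by simp [ha1.symm, hb1.symm, hab1.symm, Ne.symm hv1]),
        Finset.card_insert_of_notMem (by simp [hab, Ne.symm hva, hb1]),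
        Finset.card_insert_of_notMem (by simp [ha1, Ne.symm hvb]),
        Finset.card_insert_of_notMem (by simp [Ne.symm hne]), Finset.card_singleton] at hc
      omega
    rw [hvab, ← mul_assoc x a b, hxa, mul_assoc a x b, hxb, ← mul_assoc a b x]
  set D := (theta a).subgroupOf C
  haveI : D.Normal := ⟨fun d hd c => mem_subgroupOf.mpr ((mem_normalizer_iff.mp (theta_normalized a
    (mem_cent_of_commute (mem_centralizer_iff.mp c.2 a ha).symm)) _).mp hd)⟩
  have hD : ¬ 2 ∣ Nat.card D := fun e => not_two_dvd_theta a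
    (e.trans (card_comap_dvd_of_injective (theta a) C.subtype C.subtype_injective))
  refine h.fourCore_le_theta hb hb1 ⟨⟨x, hxC⟩, CfsgLib.le_pPrimeCore (N := D) ?_ hx, rfl⟩
  exact (Nat.prime_two.coprime_iff_not_dvd.mpr hD).symm

/-- An element of odd order centralizing `S` lies in every core. -/
theorem odd_cent_mem (h : Conf S) {c : G} (hc : c ∈ centralizer ((S : Subgroup G) : Set G))
    (hco : Odd (orderOf c)) {a : G} (ha : a ∈ four S) (ha1 : a ≠ 1) : c ∈ theta a := by
  haveI : Fact (Nat.Prime 2) := ⟨Nat.prime_two⟩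
  refine h.fourCore_le_theta ha ha1 ?_
  set E := centralizer ((S : Subgroup G) : Set G)
  set C := centralizer (four S : Set G)
  have hEC : E ≤ C := centralizer_le (h.four_le : (four S : Set G) ⊆ S)
  have hEN : E ≤ normalizer ((S : Subgroup G) : Set G) := centralizer_le_normalizer _
  have hEc : HasNormalPComplement 2 E := by
    obtain ⟨T⟩ := (inferInstance : Nonempty (Sylow 2 E))
    refine CfsgLib.hasNormalPComplement_of_normalizer_le_centralizer T fun x _ t ht => Subtype.ext ?_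
    have h1 : (t : G) ∈ (S : Subgroup G) := mem_of_twoEl_normalizer S
      (PiClosedTwo.isTwoEl_coe.mpr (isTwoEl_of_mem T.2 ht)) (hEN t.2)
    exact mem_centralizer_iff.mp x.2 _ h1
  set D := (pPrimeCore 2 E).map E.subtype
  have hcD : c ∈ D := ⟨⟨c, hc⟩, CfsgLib.mem_pPrimeCore_of_hasNormalPComplement hEc
    (by rw [Subgroup.orderOf_mk]; exact Nat.coprime_two_right.2 hco), rfl⟩
  have hDC : D ≤ C := (map_subtype_le _).trans hEC
  have hDodd : ¬ 2 ∣ Nat.card D := fun e => by
    rw [card_map_of_injective (subtype_injective _)] at e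
    exact CfsgLib.not_dvd_card_pPrimeCore Nat.prime_two e
  have hBD : ∀ n ∈ baseGrp S, ∀ d ∈ D, n * d * n⁻¹ ∈ D := by
    rintro n hn _ ⟨d, hd, rfl⟩
    have hdn : n * (d : G) * n⁻¹ ∈ E := by
      refine mem_centralizer_iff.mpr fun s hs => ?_
      have hs' : n⁻¹ * s * n ∈ (S : Subgroup G) := by
        have := (mem_normalizer_iff.mp (inv_mem hn.1) s).mp hs
        rwa [inv_inv] at this
      have h1 := mem_centralizer_iff.mp d.2 _ hs'
      calc s * (n * d * n⁻¹) = n * (n⁻¹ * s * n * d) * n⁻¹ := by group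
        _ = n * (d * (n⁻¹ * s * n)) * n⁻¹ := by rw [h1]
        _ = _ := by group
    refine ⟨⟨_, hdn⟩, CfsgLib.mem_pPrimeCore_of_hasNormalPComplement hEc ?_, rfl⟩
    rw [Subgroup.orderOf_mk, show n * (d : G) * n⁻¹ = (MulAut.conj n).toMonoidHom d from rfl,
      orderOf_injective _ (MulEquiv.injective (MulAut.conj n)), Subgroup.orderOf_coe]
    exact Nat.Coprime.coprime_dvd_left (Subgroup.orderOf_dvd_natCard _ hd) (CfsgLib.card_pPrimeCore_coprime 2)
  have hn : D ≤ normalizer (fourCore S : Set G) := hDC.trans h.fourCore_normalized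
  set O := fourCore S ⊔ D
  have hOC : O ≤ C := sup_le h.fourCore_le hDC
  haveI : (O.subgroupOf C).Normal := by
    refine ⟨fun x hx g => ?_⟩
    obtain ⟨k, hk, n, hn', e⟩ := h.cent_four_decomp g.2
    show (g : G) * x * (g : G)⁻¹ ∈ O
    have hx' : (x : G) ∈ O := hx
    have hnx : n * x * n⁻¹ ∈ O := by
      rw [← SetLike.mem_coe, coe_mul_of_right_le_normalizer_left _ _ hn] at hx'
      obtain ⟨r, hr, d, hd, e'⟩ := hx'
      rw [← e']
      show n * (r * d) * n⁻¹ ∈ O
      rw [show n * (r * d) * n⁻¹ = n * r * n⁻¹ * (n * d * n⁻¹) by group]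
      exact mul_mem (mem_sup_left ((mem_normalizer_iff.mp (h.fourCore_normalized hn'.2) r).mp hr))
        (mem_sup_right (hBD n hn' d hd))
    rw [e, show k * n * x * (k * n)⁻¹ = k * (n * x * n⁻¹) * k⁻¹ by group]
    exact mul_mem (mul_mem (mem_sup_left hk) hnx) (inv_mem (mem_sup_left hk))
  refine ⟨⟨c, hDC hcD⟩, CfsgLib.le_pPrimeCore (N := O.subgroupOf C) ?_ (mem_sup_right hcD : c ∈ O), rfl⟩
  rw [Nat.card_congr (subgroupOfEquivOfLe hOC).toEquiv]
  refine (Nat.prime_two.coprime_iff_not_dvd.mpr fun e => ?_).symm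
  rcases Nat.prime_two.dvd_mul.mp (e.trans (card_sup_mul hn ▸ dvd_mul_right _ _)) with e' | e'
  · exact h.fourCore_odd e'
  · exact hDodd e'

/-- An element of `N(S) ∩ C(Z)` fixing a coset is a core element times an element of `S`. -/
theorem exists_core_inner (h : Conf S) {n u a : G} (hn : n ∈ baseGrp S) (hu : u ∈ (S : Subgroup G))
    (huV : u ∉ four S) (hfix : n * u * n⁻¹ * u⁻¹ ∈ four S) (ha : a ∈ four S) (ha1 : a ≠ 1) :
    ∃ o ∈ theta a, ∃ s ∈ (S : Subgroup G), n = o * s := by
  obtain ⟨t, ht, c, hc, e⟩ := h.exists_inner hn hu huV hfix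
  obtain ⟨v, hv, d, hd, hv2, hdo, ec⟩ := exists_parts c
  have hle : zpowers c ≤ centralizer ((S : Subgroup G) : Set G) := zpowers_le.mpr hc
  have hvS : v ∈ (S : Subgroup G) := mem_of_twoEl_normalizer S hv2 (centralizer_le_normalizer _ (hle hv))
  refine ⟨d, h.odd_cent_mem (hle hd) hdo ha ha1, t * v, mul_mem ht hvS, ?_⟩
  have h1 : t * v * d = d * (t * v) := mem_centralizer_iff.mp (hle hd) _ (mul_mem ht hvS)
  rw [← h1, e, ec, mul_assoc]

/-- Elements of `S` congruent modulo the core are equal. -/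
theorem eq_of_mod_theta (_h : Conf S) {z o x y : G} (ho : o ∈ theta z) (hx : x ∈ (S : Subgroup G))
    (hy : y ∈ (S : Subgroup G)) (hxc : x ∈ centralizer ({z} : Set G)) (e : o * x * o⁻¹ = y) : x = y := by
  have h1 : y * x⁻¹ ∈ theta z := by
    rw [← e, show o * x * o⁻¹ * x⁻¹ = o * (x * o⁻¹ * x⁻¹) by group]
    exact mul_mem ho ((mem_normalizer_iff.mp (theta_normalized z hxc) _).mp (inv_mem ho))
  have h2 := eq_one_of_twoEl_odd (isTwoEl_of_sylow S (mul_mem hy (inv_mem hx))) (not_two_dvd_theta z) h1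
  exact (mul_inv_eq_one.mp h2).symm

/-- The centralizer of an element of order four of `S`. -/
theorem cent_noncentral (h : Conf S) {u : G} (hu : u ∈ (S : Subgroup G)) (huV : u ∉ four S) {g : G}
    (hg : g ∈ centralizer ({u} : Set G)) :
    ∃ o ∈ theta (u * u), ∃ s ∈ (S : Subgroup G), o * u = u * o ∧ s * u = u * s ∧ g = o * s := by
  have hz : u * u ∈ four S := h.sq_mem hu
  have hz1 : u * u ≠ 1 := fun e => huV (h.mem_four_of_sq hu e)
  have hgz : g ∈ centralizer ({u * u} : Set G) := mem_cent_of_commute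
    ((show Commute g u from commute_of_mem_cent hg).mul_right (commute_of_mem_cent hg)).eq
  have hucent : ∀ x ∈ (S : Subgroup G), x ∈ centralizer ({u * u} : Set G) := fun x hx =>
    mem_cent_of_commute (h.four_comm hz hx).symm
  obtain ⟨o, ho, n, hn, e⟩ := h.cent_base hz hz1 hgz
  have hnu : n * u * n⁻¹ ∈ (S : Subgroup G) := (mem_normalizer_iff.mp hn.1 u).mp hu
  have h1 : n * u * n⁻¹ = u := h.eq_of_mod_theta ho hnu hu (hucent _ hnu) (by
    rw [show o * (n * u * n⁻¹) * o⁻¹ = o * n * u * (o * n)⁻¹ by group, ← e, commute_of_mem_cent hg,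
      mul_inv_cancel_right])
  obtain ⟨o', ho', s, hs, en⟩ := h.exists_core_inner hn hu huV (by rw [h1, mul_inv_cancel]; exact one_mem _) hz hz1
  have e' : g = o * o' * s := by rw [e, en, mul_assoc]
  have hsu : s * u * s⁻¹ ∈ (S : Subgroup G) := mul_mem (mul_mem hs hu) (inv_mem hs)
  have h2 : s * u * s⁻¹ = u := h.eq_of_mod_theta (mul_mem ho ho') hsu hu (hucent _ hsu) (by
    rw [show o * o' * (s * u * s⁻¹) * (o * o')⁻¹ = o * o' * s * u * (o * o' * s)⁻¹ by group, ← e',
      commute_of_mem_cent hg, mul_inv_cancel_right])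
  have hsc : s * u = u * s := mul_inv_eq_iff_eq_mul.mp h2
  refine ⟨o * o', mul_mem ho ho', s, hs, ?_, hsc, e'⟩
  have h3 : g * s⁻¹ ∈ centralizer ({u} : Set G) := mul_mem hg (inv_mem (mem_cent_of_commute hsc))
  rw [e', mul_inv_cancel_right] at h3
  exact commute_of_mem_cent h3

/-- No involution inverts an element of order four of `S`. -/
theorem no_invert (h : Conf S) {u i : G} (hu : u ∈ (S : Subgroup G)) (huV : u ∉ four S) (hi : i * i = 1) :
    i * u * i⁻¹ ≠ u⁻¹ := by
  intro e
  have hz : u * u ∈ four S := h.sq_mem hu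
  have hz1 : u * u ≠ 1 := fun e0 => huV (h.mem_four_of_sq hu e0)
  have hcent : ∀ x ∈ (S : Subgroup G), x ∈ centralizer ({u * u} : Set G) := fun x hx =>
    mem_cent_of_commute (h.four_comm hz hx).symm
  have hiz : i ∈ centralizer ({u * u} : Set G) := mem_cent_of_commute (mul_inv_eq_iff_eq_mul.mp (by
    rw [show i * (u * u) * i⁻¹ = i * u * i⁻¹ * (i * u * i⁻¹) by group, e, ← mul_inv_rev]
    exact inv_eq_of_mul_eq_one_left (h.four_sq hz)))
  obtain ⟨o1, ho1, n, hn, e1⟩ := h.cent_base hz hz1 hiz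
  have hnu : n * u * n⁻¹ ∈ (S : Subgroup G) := (mem_normalizer_iff.mp hn.1 u).mp hu
  have hnu' : n * u * n⁻¹ = u⁻¹ := h.eq_of_mod_theta ho1 hnu (inv_mem hu) (hcent _ hnu) (by
    rw [show o1 * (n * u * n⁻¹) * o1⁻¹ = o1 * n * u * (o1 * n)⁻¹ by group, ← e1, e])
  obtain ⟨o2, ho2, s, hs', e2⟩ := h.exists_core_inner hn hu huV (by
    rw [hnu', ← mul_inv_rev]; exact inv_mem hz) hz hz1
  set o := o1 * o2
  have ho : o ∈ theta (u * u) := mul_mem ho1 ho2
  have eos : i = o * s := by rw [e1, e2, mul_assoc]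
  have hss : s * s = 1 := by
    refine eq_one_of_twoEl_odd (isTwoEl_of_sylow S (mul_mem hs' hs')) (not_two_dvd_theta (u * u)) ?_
    have hso : s * o * s⁻¹ ∈ theta (u * u) := (mem_normalizer_iff.mp
      (theta_normalized _ (hcent s hs')) o).mp ho
    have : s * s = (o * (s * o * s⁻¹))⁻¹ * (o * s * (o * s)) := by group
    rw [this, ← eos, hi, mul_one]
    exact inv_mem (mul_mem ho hso)
  have hsV := h.mem_four_of_sq hs' hss
  have hsu : s * u * s⁻¹ = u := by rw [h.four_comm hsV hu, mul_inv_cancel_right]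
  have h1 := h.eq_of_mod_theta ho hu (inv_mem hu) (hcent u hu) (by
    rw [← e, eos]
    conv_lhs => rw [← hsu]
    group)
  exact hz1 (by conv_lhs => arg 2; rw [h1]
                exact mul_inv_cancel u)

end Conf

end CfsgLib.U34Char
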