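import Cfsg.Agent.Lib.U34Char.Search
import Mathlib.Algebra.Order.Field.Basic
import Mathlib.Algebra.BigOperators.Group.List.Basic
import Mathlib.Algebra.BigOperators.Ring.List
import Mathlib.Algebra.Order.BigOperators.Group.List
import Mathlib.Tactic.Ring
import Mathlib.Tactic.FieldSimp
import Mathlib.Tactic.Positivity

/-!
# Soundness of the search: no table of rows satisfies all equations
-/

namespace CfsgLib.U34Char.Cert

variable {f : ℕ × Rep → ℤ}

theorem low_pos (r : Rep) (ε : ℤ) : 0 < r.low ε := by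
  have h1 : 0 ≤ r.need ε := le_max_left _ _
  have h2 := Int.emod_nonneg (r.res ε - r.need ε) (show (64 : ℤ) ≠ 0 by norm_num)
  unfold Rep.low; omega

theorem Rep.Adm.ne_zero {r : Rep} {x : ℤ} (h : r.Adm x) : x ≠ 0 := by
  rcases h with ⟨h, -⟩ | ⟨h, -⟩ <;> omega

/-- `f` solves the residual equations -/
structure Sol (f : ℕ × Rep → ℤ) (free : List (ℕ × Rep)) (s : St) : Prop where
  adm : ∀ e ∈ free, e.2.Adm (f e)
  q1 : 0 < s.k1.2
  q2 : 0 < s.k2.2
  q3 : 0 < s.k3.2
  e1 : (s.k1.1 : ℚ) / s.k1.2 + (free.map fun e => (e.2.c1 : ℚ) / f e).sum = 0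
  e2 : (s.k2.1 : ℚ) / s.k2.2 + (free.map fun e => (e.2.c2 : ℚ) / f e).sum = 0
  e3 : (s.k3.1 : ℚ) / s.k3.2 + (free.map fun e => (e.2.c3 : ℚ) / f e).sum < 0
  g1 : s.l1 + (free.map fun e => e.2.m1 * f e).sum = 0
  g2 : s.l2 + (free.map fun e => e.2.m2 * f e).sum = 0
  g3 : s.l3 + (free.map fun e => e.2.m3 * f e).sum = 0

theorem sum_filter_eq {α M : Type*} [AddMonoid M] (l : List α) (p : α → Bool) (g : α → M)
    (h : ∀ a ∈ l, p a = false → g a = 0) :
    ((l.filter p).map g).sum = (l.map g).sum := by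
  induction l with
  | nil => rfl
  | cons a l ih =>
    have ih' := ih fun b hb => h b (List.mem_cons_of_mem _ hb)
    cases hp : p a
    · rw [List.filter_cons_of_neg (by simp [hp]), ih', List.map_cons, List.sum_cons,
        h a List.mem_cons_self hp, zero_add]
    · rw [List.filter_cons_of_pos hp, List.map_cons, List.sum_cons, ih', List.map_cons,
        List.sum_cons]

theorem upd_pos {k : ℤ × ℤ} (hk : 0 < k.2) {x : ℤ} (hx : x ≠ 0) (c : ℤ) : 0 < (upd k c x).2 := by
  unfold upd
  split
  · rename_i h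
    show 0 < -(k.2 * x)
    rw [neg_pos]
    exact mul_neg_of_pos_of_neg hk h
  · exact mul_pos hk (by omega)

theorem upd_val {k : ℤ × ℤ} (hk : 0 < k.2) {x : ℤ} (hx : x ≠ 0) (c : ℤ) :
    ((upd k c x).1 : ℚ) / (upd k c x).2 = (k.1 : ℚ) / k.2 + (c : ℚ) / x := by
  have h1 : (k.2 : ℚ) ≠ 0 := Int.cast_ne_zero.mpr hk.ne'
  have h2 : (x : ℚ) ≠ 0 := Int.cast_ne_zero.mpr hx
  unfold upd
  split <;> push_cast
  · rw [neg_div_neg_eq, div_add_div _ _ h1 h2]; ring
  · rw [div_add_div _ _ h1 h2]; ring

theorem Sol.step {free : List (ℕ × Rep)} {s : St} (h : Sol f free s) {e : ℕ × Rep}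
    (he : e ∈ free) : Sol f (free.erase e) (s.step e.2 (f e)) := by
  have hx := (h.adm e he).ne_zero
  have hp := List.perm_cons_erase he
  have hs : ∀ g : ℕ × Rep → ℚ, (free.map g).sum = g e + ((free.erase e).map g).sum :=
    fun g => by rw [(hp.map g).sum_eq]; simp
  have hz : ∀ g : ℕ × Rep → ℤ, (free.map g).sum = g e + ((free.erase e).map g).sum :=
    fun g => by rw [(hp.map g).sum_eq]; simp
  refine ⟨fun a ha => h.adm a (List.mem_of_mem_erase ha), upd_pos h.q1 hx _, upd_pos h.q2 hx _,
    upd_pos h.q3 hx _, ?_, ?_, ?_, ?_, ?_, ?_⟩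
  · show ((upd s.k1 e.2.c1 (f e)).1 : ℚ) / (upd s.k1 e.2.c1 (f e)).2 + _ = 0
    rw [upd_val h.q1 hx, add_assoc, ← hs (fun e => (e.2.c1 : ℚ) / f e)]
    exact h.e1
  · show ((upd s.k2 e.2.c2 (f e)).1 : ℚ) / (upd s.k2 e.2.c2 (f e)).2 + _ = 0
    rw [upd_val h.q2 hx, add_assoc, ← hs (fun e => (e.2.c2 : ℚ) / f e)]
    exact h.e2
  · show ((upd s.k3 e.2.c3 (f e)).1 : ℚ) / (upd s.k3 e.2.c3 (f e)).2 + _ < 0
    rw [upd_val h.q3 hx, add_assoc, ← hs (fun e => (e.2.c3 : ℚ) / f e)]
    exact h.e3
  · show s.l1 + e.2.m1 * f e + _ = 0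
    rw [add_assoc, ← hz (fun e => e.2.m1 * f e)]
    exact h.g1
  · show s.l2 + e.2.m2 * f e + _ = 0
    rw [add_assoc, ← hz (fun e => e.2.m2 * f e)]
    exact h.g2
  · show s.l3 + e.2.m3 * f e + _ = 0
    rw [add_assoc, ← hz (fun e => e.2.m3 * f e)]
    exact h.g3

/-- a list of children is complete -/
def Complete (f : ℕ × Rep → ℤ) (free : List (ℕ × Rep))
    (o : Option (List ((ℕ × Rep) × ℤ))) : Prop :=
  ∀ ch, o = some ch → ∃ e ∈ free, (e, f e) ∈ ch

theorem complete_shorter {free : List (ℕ × Rep)} {o o' : Option (List ((ℕ × Rep) × ℤ))}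
    (h : Complete f free o) (h' : Complete f free o') : Complete f free (shorter o o') := by
  intro ch hch
  match o, o', h, h', hch with
  | none, o', _, h', hch => exact h' ch hch
  | some l, none, h, _, hch => exact h ch hch
  | some l, some m, h, h', hch =>
    simp only [shorter] at hch
    split at hch
    · exact h ch hch
    · exact h' ch hch

theorem complete_lin (co : Rep → ℤ) {free : List (ℕ × Rep)} {l : ℤ}
    (hadm : ∀ e ∈ free, e.2.Adm (f e))
    (heq : l + (free.map fun e => co e.2 * f e).sum = 0) :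
    Complete f free (linOpt co free l) := by
  have hsum := sum_filter_eq free (fun e => decide (co e.2 ≠ 0)) (fun e => co e.2 * f e)
    (fun a _ h => by
      have : co a.2 = 0 := by simpa using h
      simp [this])
  intro ch hch
  unfold linOpt at hch
  split at hch
  · rename_i hfl
    rw [hfl] at hsum
    split_ifs at hch with hl
    exact absurd (by simp at hsum; omega) hl
  · rename_i e hfl
    rw [hfl] at hsum
    have he : e ∈ free.filter (fun e => decide (co e.2 ≠ 0)) := by rw [hfl]; simp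
    obtain ⟨he1, he2⟩ := List.mem_filter.mp he
    have hc : co e.2 ≠ 0 := by simpa using he2
    have hl : -l = co e.2 * f e := by simp at hsum; omega
    have hx : -l / co e.2 = f e := by rw [hl]; exact Int.mul_ediv_cancel_left _ hc
    have hd : l % co e.2 = 0 := by
      apply Int.emod_eq_zero_of_dvd
      exact Int.dvd_neg.mp ⟨f e, hl⟩
    rw [if_pos ⟨hd, by rw [hx]; exact hadm e he1⟩, Option.some.injEq] at hch
    subst hch
    exact ⟨e, he1, by rw [hx]; simp⟩
  · exact absurd hch (by simp)

theorem cast_iabs (c : ℤ) : (iabs c : ℚ) = |(c : ℚ)| := by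
  unfold iabs
  split
  · rename_i h; push_cast; rw [abs_of_neg (by exact_mod_cast h)]
  · rename_i h; rw [abs_of_nonneg (by exact_mod_cast (not_lt.mp h))]

theorem iabs_pos {c : ℤ} (h : c ≠ 0) : 0 < iabs c := by unfold iabs; split <;> omega

theorem iabs_nonneg (c : ℤ) : 0 ≤ iabs c := by unfold iabs; split <;> omega

/-- `-σ c / x`, with `σ` the sign of `p` -/
def gain (c p : ℤ) (x : ℤ) : ℚ := (if 0 < p then -1 else 1) * ((c : ℚ) / x)

theorem sign_of_gain_pos {c p x : ℤ} (hg : 0 < gain c p x) :
    x = gsign c p * |x| ∧ gain c p x = (iabs c : ℚ) / |(x : ℚ)| := by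
  have hx : x ≠ 0 := fun h => by simp [gain, h] at hg
  have hc : c ≠ 0 := fun h => by simp [gain, h] at hg
  rw [cast_iabs]
  unfold gain at hg ⊢
  unfold gsign
  by_cases hp : 0 < p
  · rw [if_pos hp] at hg ⊢
    rcases div_neg_iff.mp (show (c : ℚ) / x < 0 by linarith) with ⟨h1, h2⟩ | ⟨h1, h2⟩
    · have h1' : 0 < c := by exact_mod_cast h1
      have h2' : x < 0 := by exact_mod_cast h2
      rw [if_pos (by simp [hp, h1']), abs_of_neg h2', abs_of_neg h2, abs_of_pos h1, div_neg]
      constructor <;> ring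
    · have h1' : ¬ 0 < c := not_lt.mpr (le_of_lt (by exact_mod_cast h1))
      have h2' : 0 < x := by exact_mod_cast h2
      rw [if_neg (by simp [hp, h1']), abs_of_pos h2', abs_of_pos h2, abs_of_neg h1, neg_div]
      constructor <;> ring
  · rw [if_neg hp] at hg ⊢
    rcases div_pos_iff.mp (show 0 < (c : ℚ) / x by linarith) with ⟨h1, h2⟩ | ⟨h1, h2⟩
    · have h1' : 0 < c := by exact_mod_cast h1
      have h2' : 0 < x := by exact_mod_cast h2
      rw [if_neg (by simp [hp, h1']), abs_of_pos h2', abs_of_pos h2, abs_of_pos h1]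
      constructor <;> ring
    · have h1' : ¬ 0 < c := not_lt.mpr (le_of_lt (by exact_mod_cast h1))
      have h2' : x < 0 := by exact_mod_cast h2
      rw [if_pos (by simp [hp, h1']), abs_of_neg h2', abs_of_neg h2, abs_of_neg h1, neg_div_neg_eq]
      constructor <;> ring

theorem gain_le {r : Rep} {c p x : ℤ} (hx : r.Adm x) :
    gain c p x ≤ (iabs c : ℚ) / (r.low (gsign c p) : ℚ) := by
  have hlo : (0 : ℚ) < (r.low (gsign c p) : ℚ) := by exact_mod_cast low_pos r _
  have hnn : (0 : ℚ) ≤ (iabs c : ℚ) := by exact_mod_cast iabs_nonneg c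
  rcases le_or_gt (gain c p x) 0 with h | h
  · exact h.trans (div_nonneg hnn hlo.le)
  obtain ⟨hs, hg⟩ := sign_of_gain_pos h
  rw [hg]
  apply div_le_div_of_nonneg_left hnn hlo
  rw [← Int.cast_abs]
  have : r.low (gsign c p) ≤ |x| := by
    rcases hx with ⟨h0, h1, -⟩ | ⟨h0, h1, -⟩
    · rw [abs_of_pos h0] at hs ⊢
      have : gsign c p = 1 := by
        unfold gsign at hs ⊢; split_ifs at hs ⊢ with hd <;> omega
      rwa [this]
    · rw [abs_of_neg h0] at hs ⊢
      have : gsign c p = -1 := by
        unfold gsign at hs ⊢; split_ifs at hs ⊢ with hd <;> omega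
      rwa [this]
  exact_mod_cast this

theorem bound_spec (co : Rep → ℤ) (p : ℤ) (fr : List (ℕ × Rep))
    (hadm : ∀ e ∈ fr, e.2.Adm (f e)) :
    0 < (bound co p fr).2 ∧
      (fr.map fun e => gain (co e.2) p (f e)).sum ≤ ((bound co p fr).1 : ℚ) / (bound co p fr).2 := by
  induction fr with
  | nil => simp [bound]
  | cons e es ih =>
    obtain ⟨h1, h2⟩ := ih fun a ha => hadm a (List.mem_cons_of_mem _ ha)
    have hlo := low_pos e.2 (gsign (co e.2) p)
    refine ⟨mul_pos h1 hlo, ?_⟩
    have h3 := gain_le (c := co e.2) (p := p) (hadm e List.mem_cons_self)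
    rw [List.map_cons, List.sum_cons]
    have h1' : ((bound co p es).2 : ℚ) ≠ 0 := Int.cast_ne_zero.mpr h1.ne'
    have hlo' : (e.2.low (gsign (co e.2) p) : ℚ) ≠ 0 := Int.cast_ne_zero.mpr hlo.ne'
    calc _ ≤ (iabs (co e.2) : ℚ) / e.2.low (gsign (co e.2) p) +
          ((bound co p es).1 : ℚ) / (bound co p es).2 := add_le_add h3 h2
      _ = _ := by
          rw [bound]
          push_cast
          rw [div_add_div _ _ hlo' h1']
          ring

theorem exists_avg {α : Type*} (g : α → ℚ) :
    ∀ (l : List α) (t : ℚ), 0 < t → t ≤ (l.map g).sum → ∃ a ∈ l, t ≤ l.length * g a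
  | [], t, ht, h => by simp at h; linarith
  | a :: l, t, ht, h => by
    rw [List.map_cons, List.sum_cons] at h
    by_cases h0 : t ≤ (l.length + 1 : ℚ) * g a
    · exact ⟨a, List.mem_cons_self, by simpa using h0⟩
    rw [not_le] at h0
    have hn : (0 : ℚ) < l.length + 1 := by positivity
    have ht' : 0 < t - g a := by
      nlinarith
    obtain ⟨b, hb, hb'⟩ := exists_avg g l (t - g a) ht' (by linarith)
    refine ⟨b, List.mem_cons_of_mem _ hb, ?_⟩
    push_cast [List.length_cons]
    rcases le_or_gt (g b) (g a) with hle | hlt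
    · nlinarith
    · nlinarith

theorem complete_rat (co : Rep → ℤ) (strict : Bool) {free : List (ℕ × Rep)} {k : ℤ × ℤ}
    (hadm : ∀ e ∈ free, e.2.Adm (f e)) (hq : 0 < k.2)
    (heq : strict = false → (k.1 : ℚ) / k.2 + (free.map fun e => (co e.2 : ℚ) / f e).sum = 0)
    (hlt : strict = true → (k.1 : ℚ) / k.2 + (free.map fun e => (co e.2 : ℚ) / f e).sum < 0) :
    Complete f free (ratOpt co strict free k) := by
  have hq' : (0 : ℚ) < (k.2 : ℚ) := by exact_mod_cast hq
  have hsum := sum_filter_eq free (fun e => decide (co e.2 ≠ 0)) (fun e => (co e.2 : ℚ) / f e)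
    (fun a _ h => by
      have : co a.2 = 0 := by simpa using h
      simp [this])
  intro ch hch
  unfold ratOpt at hch
  simp only at hch
  rw [← hsum] at heq hlt
  set fr := free.filter (fun e => decide (co e.2 ≠ 0)) with hfr
  have hadm' : ∀ e ∈ fr, e.2.Adm (f e) := fun e he => hadm e (List.mem_filter.mp he).1
  split_ifs at hch with hemp hk hp hb
  · exfalso
    rw [List.isEmpty_iff] at hemp
    simp [hemp] at heq hlt
    cases strict
    · apply hk; right
      have := heq rfl
      rcases this with h | h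
      · exact ⟨rfl, h⟩
      · omega
    · apply hk; left
      refine ⟨rfl, ?_⟩
      have h2 := (div_lt_iff₀ hq').mp (hlt rfl)
      rw [zero_mul] at h2
      exact_mod_cast h2
  all_goals rw [Option.some.injEq] at hch; subst hch
  all_goals
    push_neg at hp
    obtain ⟨hp0, hps⟩ := hp
    have hG : (iabs k.1 : ℚ) / k.2 ≤ (fr.map fun e => gain (co e.2) k.1 (f e)).sum := by
      rw [cast_iabs]
      have hm : (fr.map fun e => gain (co e.2) k.1 (f e)).sum =
          (if 0 < k.1 then -1 else 1) * (fr.map fun e => (co e.2 : ℚ) / f e).sum := by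
        rw [← List.sum_map_mul_left]; rfl
      rw [hm]
      cases hst : strict
      · have h := heq hst
        split_ifs with h0
        · rw [abs_of_pos (by exact_mod_cast h0)]; linarith
        · rw [abs_of_nonpos (by exact_mod_cast (not_lt.mp h0)), neg_div]; linarith
      · have h := hlt hst
        have h0 : 0 < k.1 := lt_of_le_of_ne (hps hst) (Ne.symm hp0)
        rw [if_pos h0, abs_of_pos (by exact_mod_cast h0)]; linarith
  · exfalso
    obtain ⟨hd, hle⟩ := bound_spec co k.1 fr hadm'
    have h := hG.trans hle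
    have hd' : (0 : ℚ) < ((bound co k.1 fr).2 : ℚ) := by exact_mod_cast hd
    rw [div_le_div_iff₀ hq' hd'] at h
    have : iabs k.1 * (bound co k.1 fr).2 ≤ (bound co k.1 fr).1 * k.2 := by exact_mod_cast h
    omega
  · have ht : (0 : ℚ) < (iabs k.1 : ℚ) / k.2 :=
      div_pos (by exact_mod_cast iabs_pos hp0) hq'
    obtain ⟨e, he, hge⟩ := exists_avg _ fr _ ht hG
    refine ⟨e, (List.mem_filter.mp he).1, List.mem_flatMap.mpr ⟨e, he, ?_⟩⟩
    have hx := hadm' e he
    have hn : (0 : ℚ) < fr.length := by exact_mod_cast List.length_pos_of_mem he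
    have hgp : 0 < gain (co e.2) k.1 (f e) := by
      by_contra hneg; nlinarith [not_lt.mp hneg]
    obtain ⟨hs, hg⟩ := sign_of_gain_pos hgp
    rw [hg, ← Int.cast_abs, mul_div_assoc', div_le_div_iff₀ hq'
      (by exact_mod_cast (abs_pos.mpr hx.ne_zero))] at hge
    have hB : iabs k.1 * |f e| ≤ (fr.length : ℤ) * iabs (co e.2) * k.2 := by exact_mod_cast hge
    have hB' : |f e| ≤ (fr.length : ℤ) * iabs (co e.2) * k.2 / iabs k.1 :=
      (Int.le_ediv_iff_mul_le (iabs_pos hp0)).mpr (by rw [mul_comm]; exact hB)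
    set ε := gsign (co e.2) k.1 with hε
    have hε1 : ε = 1 ∨ ε = -1 := by rw [hε]; unfold gsign; split <;> simp
    have hlo : e.2.low ε ≤ |f e| ∧ (|f e| - e.2.low ε) % 64 = 0 := by
      rcases hx with ⟨h0, h1, h2⟩ | ⟨h0, h1, h2⟩
      · rw [abs_of_pos h0] at hs ⊢
        rcases hε1 with h | h <;> rw [h] at hs ⊢
        · exact ⟨h1, h2⟩
        · omega
      · rw [abs_of_neg h0] at hs ⊢
        rcases hε1 with h | h <;> rw [h] at hs ⊢
        · omega
        · exact ⟨h1, h2⟩
    unfold cands
    simp only [← hε]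
    rw [if_neg (by omega), List.mem_map]
    refine ⟨f e, List.mem_filter.mpr ⟨List.mem_map.mpr
      ⟨((|f e| - e.2.low ε) / 64).toNat, List.mem_range.mpr (by omega), ?_⟩, ?_⟩, rfl⟩
    · have : ((((|f e| - e.2.low ε) / 64).toNat : ℤ)) = (|f e| - e.2.low ε) / 64 :=
        Int.toNat_of_nonneg (Int.ediv_nonneg (by omega) (by norm_num))
      rw [this]
      have h64 : e.2.low ε + 64 * ((|f e| - e.2.low ε) / 64) = |f e| := by omega
      rw [h64]; exact hs.symm
    · cases hst : strict
      · simp only [Bool.false_or, Bool.or_eq_true, decide_eq_true_eq]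
        by_cases hone : fr.length = 1
        · right
          obtain ⟨a, ha⟩ := List.length_eq_one_iff.mp hone
          rw [ha, List.mem_singleton] at he
          subst he
          have h := heq hst
          rw [ha] at h
          have hfx : (f e : ℚ) ≠ 0 := Int.cast_ne_zero.mpr (hadm' e (by rw [ha]; simp)).ne_zero
          simp only [List.map_cons, List.map_nil, List.sum_cons, List.sum_nil, add_zero] at h
          field_simp at h
          have : ((k.1 * f e + co e.2 * k.2 : ℤ) : ℚ) = 0 := by push_cast; linarith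
          exact_mod_cast this
        · left; exact hone
      · simp

theorem solve_sound : ∀ (n : ℕ) (free : List (ℕ × Rep)) (s : St),
    solve n free s = true → ¬ Sol f free s
  | 0, _, _, h, _ => by simp [solve] at h
  | n + 1, free, s, h, hS => by
    simp only [solve] at h
    have hc : Complete f free (options free s) := by
      unfold options
      exact complete_shorter (complete_lin _ hS.adm hS.g1) (complete_shorter
        (complete_lin _ hS.adm hS.g2) (complete_shorter (complete_lin _ hS.adm hS.g3)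
        (complete_shorter (complete_rat _ true hS.adm hS.q3 (by simp) (fun _ => hS.e3))
        (complete_shorter (complete_rat _ false hS.adm hS.q1 (fun _ => hS.e1) (by simp))
          (complete_rat _ false hS.adm hS.q2 (fun _ => hS.e2) (by simp))))))
    cases ho : options free s with
    | none => simp [ho] at h
    | some ch =>
      simp only [ho, List.all_eq_true] at h
      obtain ⟨e, he, hech⟩ := hc ch ho
      exact solve_sound n _ _ (h _ hech) (hS.step he)

/-- the totals of a list of rows -/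
def Tot (M : List Rep) (r : Feat) : Prop :=
  (M.map fun x => x.feat.bb).sum = r.bb ∧ (M.map fun x => x.feat.aa).sum = r.aa ∧
  (M.map fun x => x.feat.cc).sum = r.cc ∧ (M.map fun x => x.feat.qq).sum = r.qq ∧
  (M.map fun x => x.feat.ee).sum = r.ee ∧ (M.map fun x => x.feat.ab).sum = r.ab ∧
  (M.map fun x => x.feat.bc).sum = r.bc ∧ (M.map fun x => x.feat.ac).sum = r.ac ∧
  (M.map fun x => x.feat.pp).sum = r.pp

theorem Tot.sub {x : Rep} {M : List Rep} {r : Feat} (hx : x ∈ M) (h : Tot M r) :
    Tot (M.erase x) (r.sub x.feat) := by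
  have hp := List.perm_cons_erase hx
  have hs : ∀ g : Rep → ℤ, (M.map g).sum = g x + ((M.erase x).map g).sum :=
    fun g => by rw [(hp.map g).sum_eq]; simp
  simp only [Tot, hs] at h
  simp only [Tot, Feat.sub]
  omega

theorem feat_nonneg {x : Rep} (hx : x ∈ repsOne ++ repsZero) :
    0 ≤ x.feat.bb ∧ 0 ≤ x.feat.aa ∧ 0 ≤ x.feat.cc ∧ 0 ≤ x.feat.qq ∧ 0 ≤ x.feat.ee :=
  (reps_pos x hx).2

theorem Tot.fits {x : Rep} {M : List Rep} {r : Feat} (hM : ∀ e ∈ M, e ∈ repsOne ++ repsZero)
    (hx : x ∈ M) (h : Tot M r) : x.feat.fits r = true := by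
  have h1 : ∀ g : Rep → ℤ, (∀ e ∈ M, 0 ≤ g e) → g x ≤ (M.map g).sum := fun g hg =>
    List.single_le_sum (fun y hy => by
      obtain ⟨e, he, rfl⟩ := List.mem_map.mp hy; exact hg e he) _
      (List.mem_map.mpr ⟨x, hx, rfl⟩)
  obtain ⟨ha, hb, hc, hd, he, -⟩ := h
  have n := fun e he => feat_nonneg (hM e he)
  simp only [Feat.fits, Bool.and_eq_true, decide_eq_true_eq]
  refine ⟨⟨⟨⟨?_, ?_⟩, ?_⟩, ?_⟩, ?_⟩
  · exact ha ▸ h1 _ fun e he => (n e he).1
  · exact hb ▸ h1 _ fun e he => (n e he).2.1
  · exact hc ▸ h1 _ fun e he => (n e he).2.2.1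
  · exact hd ▸ h1 _ fun e he => (n e he).2.2.2.1
  · exact he ▸ h1 _ fun e he => (n e he).2.2.2.2

theorem eq_nil_of_tot_zero {M : List Rep} (hM : ∀ e ∈ M, e ∈ repsOne ++ repsZero)
    (h : Tot M Feat.zero) : M = [] := by
  by_contra hne
  obtain ⟨x, hx⟩ := List.exists_mem_of_ne_nil M hne
  have h1 := Tot.fits hM hx h
  have h2 := (reps_pos x (hM x hx)).1
  simp only [Feat.fits, Feat.zero, Bool.and_eq_true, decide_eq_true_eq] at h1
  obtain ⟨⟨⟨⟨a, b⟩, c⟩, d⟩, e⟩ := h1
  linarith [of_decide_eq_true a, of_decide_eq_true b, of_decide_eq_true c, of_decide_eq_true d,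
    of_decide_eq_true e]

theorem searchZero_spec : ∀ (n : ℕ) (xs : List Rep) (r : Feat) (acc M : List Rep),
    (∀ e ∈ xs, e ∈ repsZero) → (∀ e ∈ M, e ∈ xs) → Tot M r → searchZero n xs r acc = true →
    ∃ l : List Rep, l.Perm (M ++ acc) ∧ refute l = true
  | 0, _, _, _, _, _, _, _, h => by simp [searchZero] at h
  | n + 1, xs, r, acc, M, hxs, hM, hT, h => by
    have hM' : ∀ e ∈ M, e ∈ repsOne ++ repsZero :=
      fun e he => List.mem_append_right _ (hxs e (hM e he))
    unfold searchZero at h
    split_ifs at h with hr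
    · rw [hr] at hT
      exact ⟨acc, by rw [eq_nil_of_tot_zero hM' hT]; exact List.Perm.refl _, h⟩
    match xs, hxs, hM, h with
    | [], _, hM, _ =>
      have : M = [] := List.eq_nil_iff_forall_not_mem.mpr fun e he => by simpa using hM e he
      subst this
      exfalso; apply hr
      obtain ⟨a, b, c, d, e, g, i, j, k⟩ := hT
      cases r; simp_all [Feat.zero]
    | x :: xs, hxs, hM, h =>
      simp only [Bool.and_eq_true] at h
      by_cases hx : x ∈ M
      · obtain ⟨h1, -⟩ := h
        rw [if_pos (hT.fits hM' hx)] at h1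
        obtain ⟨l, hl, hl'⟩ := searchZero_spec n (x :: xs) _ (x :: acc) (M.erase x) hxs
          (fun e he => hM e (List.mem_of_mem_erase he)) (hT.sub hx) h1
        refine ⟨l, hl.trans ?_, hl'⟩
        exact (List.perm_middle.trans
          ((List.perm_cons_erase hx).symm.append_right acc))
      · exact searchZero_spec n xs r acc M (fun e he => hxs e (List.mem_cons_of_mem _ he))
          (fun e he => (List.mem_cons.mp (hM e he)).resolve_left (fun h' => hx (h' ▸ he))) hT h.2

theorem searchOne_spec : ∀ (n : ℕ) (xs : List Rep) (r : Feat) (acc M : List Rep),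
    (∀ e ∈ xs, e ∈ repsOne) → (∀ e ∈ M, e ∈ xs ∨ e ∈ repsZero) → Tot M r →
    searchOne repsZero n xs r acc = true →
    ∃ l : List Rep, l.Perm (M ++ acc) ∧ refute l = true
  | 0, _, _, _, _, _, _, _, h => by simp [searchOne] at h
  | n + 1, xs, r, acc, M, hxs, hM, hT, h => by
    have hM' : ∀ e ∈ M, e ∈ repsOne ++ repsZero := fun e he => List.mem_append.mpr
      ((hM e he).imp (hxs e) id)
    unfold searchOne at h
    split_ifs at h with hr hr2
    · -- all rows have `b₀ = 0`
      have hz : ∀ e ∈ M, e ∈ repsZero := fun e he => by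
        rcases List.mem_append.mp (hM' e he) with h1 | h1
        · exfalso
          have := Tot.fits hM' he hT
          have := repsOne_b0 e h1
          simp only [Feat.fits, Bool.and_eq_true, decide_eq_true_eq] at *
          omega
        · exact h1
      exact searchZero_spec 200 repsZero r acc M (fun e he => he) hz hT h
    · exfalso
      have hz : ∀ e ∈ M, e ∈ repsZero := fun e he => by
        rcases List.mem_append.mp (hM' e he) with h1 | h1
        · exfalso
          have := Tot.fits hM' he hT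
          have := repsOne_b0 e h1
          simp only [Feat.fits, Bool.and_eq_true, decide_eq_true_eq] at *
          omega
        · exact h1
      apply hr2
      obtain ⟨-, -, -, -, -, hab, hbc, -⟩ := hT
      rw [← hab, ← hbc]
      constructor <;> apply List.sum_eq_zero <;> intro y hy <;>
        obtain ⟨e, he, rfl⟩ := List.mem_map.mp hy
      · exact (repsZero_b0 e (hz e he)).2.1
      · exact (repsZero_b0 e (hz e he)).2.2
    match xs, hxs, hM, h with
    | [], _, hM, _ =>
      exfalso; apply hr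
      obtain ⟨hbb, -⟩ := hT
      rw [← hbb]
      apply List.sum_eq_zero
      intro y hy
      obtain ⟨e, he, rfl⟩ := List.mem_map.mp hy
      exact (repsZero_b0 e ((hM e he).resolve_left (by simp))).1
    | x :: xs, hxs, hM, h =>
      simp only [Bool.and_eq_true] at h
      by_cases hx : x ∈ M
      · obtain ⟨h1, -⟩ := h
        rw [if_pos (hT.fits hM' hx)] at h1
        obtain ⟨l, hl, hl'⟩ := searchOne_spec n (x :: xs) _ (x :: acc) (M.erase x) hxs
          (fun e he => hM e (List.mem_of_mem_erase he)) (hT.sub hx) h1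
        refine ⟨l, hl.trans ?_, hl'⟩
        exact (List.perm_middle.trans
          ((List.perm_cons_erase hx).symm.append_right acc))
      · exact searchOne_spec n xs r acc M (fun e he => hxs e (List.mem_cons_of_mem _ he))
          (fun e he => (hM e he).imp_left fun h' =>
            (List.mem_cons.mp h').resolve_left (fun h'' => hx (by rw [← h'']; exact he))) hT h.2

theorem exists_lift : ∀ (l : List Rep) (M : List (Rep × ℤ)), l.Perm (M.map Prod.fst) →
    ∃ M' : List (Rep × ℤ), M'.Perm M ∧ M'.map Prod.fst = l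
  | [], M, h => ⟨M, List.Perm.refl _, by simpa using h.nil_eq.symm⟩
  | x :: l, M, h => by
    obtain ⟨e, he, hex⟩ := List.mem_map.mp (h.mem_iff.mp List.mem_cons_self)
    subst hex
    have hp := List.perm_cons_erase he
    obtain ⟨M', h1, h2⟩ := exists_lift l (M.erase e)
      (List.Perm.cons_inv (h.trans (hp.map Prod.fst)))
    exact ⟨e :: M', (h1.cons e).trans hp.symm, by rw [List.map_cons, h2]⟩

/-- the conclusion of the search: no table of rows has all the required properties -/
theorem no_table (M : List (Rep × ℤ)) (hmem : ∀ e ∈ M, e.1 ∈ repsOne ++ repsZero)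
    (hadm : ∀ e ∈ M, e.1.Adm e.2) (hT : Tot (M.map Prod.fst) target)
    (h1 : -1 + (M.map fun e => (e.1.c1 : ℚ) / e.2).sum = 0)
    (h2 : -4 + (M.map fun e => (e.1.c2 : ℚ) / e.2).sum = 0)
    (h3 : 1 + (M.map fun e => (e.1.c3 : ℚ) / e.2).sum < 0)
    (g1 : -1 + (M.map fun e => e.1.m1 * e.2).sum = 0)
    (g2 : (M.map fun e => e.1.m2 * e.2).sum = 0)
    (g3 : 1 + (M.map fun e => e.1.m3 * e.2).sum = 0) : False := by
  obtain ⟨l, hl, hl'⟩ := searchOne_spec 200 repsOne target [] (M.map Prod.fst) (fun e he => he)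
    (fun e he => by
      obtain ⟨a, ha, rfl⟩ := List.mem_map.mp he
      exact List.mem_append.mp (hmem a ha))
    hT search_true
  rw [List.append_nil] at hl
  obtain ⟨M', hM', rfl⟩ := exists_lift l M hl
  let f : ℕ × Rep → ℤ := fun e => (M'[e.1]?).elim 0 Prod.snd
  let free := (List.range (M'.map Prod.fst).length).zip (M'.map Prod.fst)
  have hconv : ∀ {β : Type} (g : Rep → ℤ → β),
      free.map (fun e => g e.2 (f e)) = M'.map fun e => g e.1 e.2 := by
    intro β g
    apply List.ext_getElem (by simp [free])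
    intro i h1 h2
    have hi : i < M'.length := by simpa using h2
    simp [free, f, List.getElem?_eq_getElem hi]
  have hq : ∀ g : Rep → ℤ → ℚ,
      (free.map fun e => g e.2 (f e)).sum = (M.map fun e => g e.1 e.2).sum :=
    fun g => by rw [hconv, (hM'.map _).sum_eq]
  have hz : ∀ g : Rep → ℤ → ℤ,
      (free.map fun e => g e.2 (f e)).sum = (M.map fun e => g e.1 e.2).sum :=
    fun g => by rw [hconv, (hM'.map _).sum_eq]
  refine solve_sound 40 free init hl' (f := f)
    ⟨?_, by simp [init], by simp [init], by simp [init], ?_, ?_, ?_, ?_, ?_, ?_⟩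
  · intro e he
    have : (e.2, f e) ∈ free.map (fun e => (e.2, f e)) := List.mem_map.mpr ⟨e, he, rfl⟩
    rw [hconv (fun r x => (r, x))] at this
    exact hadm (e.2, f e) (hM'.mem_iff.mp (by simpa using this))
  · rw [hq (fun r x => (r.c1 : ℚ) / x)]; simpa [init] using h1
  · rw [hq (fun r x => (r.c2 : ℚ) / x)]; simpa [init] using h2
  · rw [hq (fun r x => (r.c3 : ℚ) / x)]; simpa [init] using h3
  · rw [hz (fun r x => r.m1 * x)]; simpa [init] using g1
  · rw [hz (fun r x => r.m2 * x)]; simpa [init] using g2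
  · rw [hz (fun r x => r.m3 * x)]; simpa [init] using g3

end CfsgLib.U34Char.Cert
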