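import Mathlib.Tactic.Linarith
import Mathlib.Data.Rat.Lemmas

/-!
# The finite search behind `O = 1` in the `U₃(4)` character argument

A row (`Rep`) stands for an orbit of `L` non-trivial principal block characters under the Galois
automorphism: `b0`, `a` are common, and `C`, `Q`, `P` are the sum of the `bᵢ`, the sum of their
squares and `b₁b₃ + b₂b₄`.
-/

namespace CfsgLib.U34Char.Cert

/-- an orbit of rows -/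
structure Rep where
  L : ℤ
  b0 : ℤ
  a : ℤ
  C : ℤ
  Q : ℤ
  P : ℤ
deriving DecidableEq

/-- the quadratic totals -/
structure Feat where
  bb : ℤ
  aa : ℤ
  cc : ℤ
  qq : ℤ
  ee : ℤ
  ab : ℤ
  bc : ℤ
  ac : ℤ
  pp : ℤ
deriving DecidableEq

def Rep.feat (r : Rep) : Feat :=
  ⟨r.L * r.b0 * r.b0, r.L * r.a * r.a, r.L * r.C * r.C, r.L * r.Q, r.L * (r.a + r.C) * (r.a + r.C),
    r.L * r.a * r.b0, r.L * r.b0 * r.C, r.L * r.a * r.C, r.L * r.P⟩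

def Feat.zero : Feat := ⟨0, 0, 0, 0, 0, 0, 0, 0, 0⟩

def Feat.sub (r f : Feat) : Feat :=
  ⟨r.bb - f.bb, r.aa - f.aa, r.cc - f.cc, r.qq - f.qq, r.ee - f.ee, r.ab - f.ab, r.bc - f.bc,
    r.ac - f.ac, r.pp - f.pp⟩

def Feat.fits (f r : Feat) : Bool :=
  decide (f.bb ≤ r.bb) && decide (f.aa ≤ r.aa) && decide (f.cc ≤ r.cc) && decide (f.qq ≤ r.qq) &&
    decide (f.ee ≤ r.ee)

/-- the value at an involution -/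
def Rep.z (r : Rep) : ℤ := -5 * r.a - 4 * (r.b0 + r.C)

/-- lower bound for the degree of the fixed points of the core, for the sign `ε` -/
def Rep.need (r : Rep) (ε : ℤ) : ℤ :=
  max 0 (max (ε * r.z) (max (-(ε * r.z)) (max (-3 * (ε * r.z) + 60 * (ε * r.a))
    (-3 * (ε * r.z) - 4 * (ε * r.a)))))

/-- the residue of the degree modulo 64, for the sign `ε` -/
def Rep.res (r : Rep) (ε : ℤ) : ℤ := ε * (75 * r.a + 12 * (r.b0 + r.C))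

/-- the smallest degree for the sign `ε` -/
def Rep.low (r : Rep) (ε : ℤ) : ℤ := r.need ε + (r.res ε - r.need ε) % 64 + 64

/-- `x` is a possible signed degree -/
def Rep.Adm (r : Rep) (x : ℤ) : Prop :=
  (0 < x ∧ r.low 1 ≤ x ∧ (x - r.low 1) % 64 = 0) ∨
    (x < 0 ∧ r.low (-1) ≤ -x ∧ (-x - r.low (-1)) % 64 = 0)

instance (r : Rep) (x : ℤ) : Decidable (r.Adm x) := by unfold Rep.Adm; infer_instance

def Rep.c1 (r : Rep) : ℤ := r.L * r.a * (r.z * r.z)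
def Rep.c2 (r : Rep) : ℤ := r.L * (r.C - 4 * r.b0) * (r.z * r.z)
def Rep.c3 (r : Rep) : ℤ := r.L * r.b0 * (r.z * r.z)
def Rep.m1 (r : Rep) : ℤ := r.L * r.a
def Rep.m2 (r : Rep) : ℤ := r.L * r.C
def Rep.m3 (r : Rep) : ℤ := r.L * r.b0

/-- residual right hand sides -/
structure St where
  k1 : ℤ × ℤ
  k2 : ℤ × ℤ
  k3 : ℤ × ℤ
  l1 : ℤ
  l2 : ℤ
  l3 : ℤ

def upd (k : ℤ × ℤ) (c x : ℤ) : ℤ × ℤ :=
  if x < 0 then (-(k.1 * x + c * k.2), -(k.2 * x)) else (k.1 * x + c * k.2, k.2 * x)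

def St.step (s : St) (r : Rep) (x : ℤ) : St :=
  ⟨upd s.k1 r.c1 x, upd s.k2 r.c2 x, upd s.k3 r.c3 x,
    s.l1 + r.m1 * x, s.l2 + r.m2 * x, s.l3 + r.m3 * x⟩

def init : St := ⟨(-1, 1), (-4, 1), (1, 1), -1, 0, 1⟩

def iabs (c : ℤ) : ℤ := if c < 0 then -c else c

/-- the sign of `x` for which `c / x` has sign opposite to `p` -/
def gsign (c p : ℤ) : ℤ := if decide (0 < c) = decide (0 < p) then -1 else 1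

def linOpt (co : Rep → ℤ) (free : List (ℕ × Rep)) (l : ℤ) : Option (List ((ℕ × Rep) × ℤ)) :=
  match free.filter (fun e => decide (co e.2 ≠ 0)) with
  | [] => if l = 0 then none else some []
  | [e] =>
    if l % co e.2 = 0 ∧ e.2.Adm (-l / co e.2) then some [(e, -l / co e.2)] else some []
  | _ => none

def bound (co : Rep → ℤ) (p : ℤ) : List (ℕ × Rep) → ℤ × ℤ
  | [] => (0, 1)
  | e :: es =>
    let lo := e.2.low (gsign (co e.2) p)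
    ((bound co p es).1 * lo + iabs (co e.2) * (bound co p es).2, (bound co p es).2 * lo)

def cands (co : Rep → ℤ) (k : ℤ × ℤ) (strict : Bool) (n : ℕ) (e : ℕ × Rep) :
    List ((ℕ × Rep) × ℤ) :=
  let ε := gsign (co e.2) k.1
  let lo := e.2.low ε
  let B := (n : ℤ) * iabs (co e.2) * k.2 / iabs k.1
  if B < lo then [] else
    (((List.range (((B - lo) / 64).toNat + 1)).map (fun i : ℕ => ε * (lo + 64 * (i : ℤ)))).filter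
      (fun x => strict || decide (n ≠ 1) || decide (k.1 * x + co e.2 * k.2 = 0))).map (fun x => (e, x))

def ratOpt (co : Rep → ℤ) (strict : Bool) (free : List (ℕ × Rep)) (k : ℤ × ℤ) :
    Option (List ((ℕ × Rep) × ℤ)) :=
  let fr := free.filter (fun e => decide (co e.2 ≠ 0))
  if fr.isEmpty then
    (if (strict = true ∧ k.1 < 0) ∨ (strict = false ∧ k.1 = 0) then none else some [])
  else if k.1 = 0 ∨ (strict = true ∧ k.1 < 0) then none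
  else if (bound co k.1 fr).1 * k.2 < iabs k.1 * (bound co k.1 fr).2 then some []
  else some (fr.flatMap (cands co k strict fr.length))

def shorter {α : Type} : Option (List α) → Option (List α) → Option (List α)
  | none, o => o
  | some l, none => some l
  | some l, some m => if l.length ≤ m.length then some l else some m

def options (free : List (ℕ × Rep)) (s : St) : Option (List ((ℕ × Rep) × ℤ)) :=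
  shorter (linOpt Rep.m1 free s.l1) (shorter (linOpt Rep.m2 free s.l2)
    (shorter (linOpt Rep.m3 free s.l3) (shorter (ratOpt Rep.c3 true free s.k3)
      (shorter (ratOpt Rep.c1 false free s.k1) (ratOpt Rep.c2 false free s.k2)))))

def solve : ℕ → List (ℕ × Rep) → St → Bool
  | 0, _, _ => false
  | n + 1, free, s =>
    match options free s with
    | none => false
    | some ch => ch.all fun e => solve n (free.erase e.1) (s.step e.1.2 e.2)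

def refute (l : List Rep) : Bool := solve 40 ((List.range l.length).zip l) init

def searchZero : ℕ → List Rep → Feat → List Rep → Bool
  | 0, _, _, _ => false
  | n + 1, xs, r, acc =>
    if r = Feat.zero then refute acc else
      match xs with
      | [] => true
      | x :: xs =>
        (if x.feat.fits r then searchZero n (x :: xs) (r.sub x.feat) (x :: acc) else true) &&
          searchZero n xs r acc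

def searchOne (zs : List Rep) : ℕ → List Rep → Feat → List Rep → Bool
  | 0, _, _, _ => false
  | n + 1, xs, r, acc =>
    if r.bb = 0 then (if r.ab = 0 ∧ r.bc = 0 then searchZero 200 zs r acc else true) else
      match xs with
      | [] => true
      | x :: xs =>
        (if x.feat.fits r then searchOne zs n (x :: xs) (r.sub x.feat) (x :: acc) else true) &&
          searchOne zs n xs r acc

def repsOne : List Rep :=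
  [⟨2, 1, -2, 2, 10, 5⟩, ⟨2, 1, 2, -2, 10, 5⟩, ⟨2, 1, -1, 2, 10, 5⟩, ⟨2, 1, 1, -2, 10, 5⟩, ⟨2, 1, 0, -2, 10, 5⟩,
   ⟨2, 1, 0, 2, 10, 5⟩, ⟨2, 1, -2, 4, 8, 4⟩, ⟨2, 1, 2, -4, 8, 4⟩, ⟨4, 1, -1, 1, 5, -2⟩, ⟨4, 1, -1, 1, 5, 0⟩,
   ⟨4, 1, 1, -1, 5, -2⟩, ⟨4, 1, 1, -1, 5, 0⟩, ⟨4, 1, 0, -1, 5, -2⟩, ⟨4, 1, 0, -1, 5, 0⟩, ⟨4, 1, 0, 1, 5, -2⟩,
   ⟨4, 1, 0, 1, 5, 0⟩, ⟨1, 1, -3, 4, 4, 2⟩, ⟨1, 1, 3, -4, 4, 2⟩, ⟨1, 1, -2, 4, 4, 2⟩, ⟨1, 1, 2, -4, 4, 2⟩,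
   ⟨1, 1, -1, 4, 4, 2⟩, ⟨1, 1, 1, -4, 4, 2⟩, ⟨4, 1, -1, 2, 4, 0⟩, ⟨4, 1, 1, -2, 4, 0⟩, ⟨2, 1, -2, 0, 4, 2⟩,
   ⟨2, 1, 2, 0, 4, 2⟩, ⟨2, 1, -1, 0, 4, 2⟩, ⟨2, 1, 1, 0, 4, 2⟩, ⟨4, 1, -1, 0, 4, -2⟩, ⟨4, 1, 1, 0, 4, -2⟩,
   ⟨2, 1, 0, 0, 4, 2⟩, ⟨4, 1, 0, 0, 4, -2⟩, ⟨4, 1, -1, 1, 3, -1⟩, ⟨4, 1, -1, 1, 3, 1⟩, ⟨4, 1, 1, -1, 3, -1⟩,
   ⟨4, 1, 1, -1, 3, 1⟩, ⟨4, 1, 0, -1, 3, -1⟩, ⟨4, 1, 0, -1, 3, 1⟩, ⟨4, 1, 0, 1, 3, -1⟩, ⟨4, 1, 0, 1, 3, 1⟩,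
   ⟨2, 1, -2, 2, 2, 1⟩, ⟨2, 1, 2, -2, 2, 1⟩, ⟨2, 1, -1, 2, 2, 1⟩, ⟨2, 1, 1, -2, 2, 1⟩, ⟨4, 1, -1, 2, 2, 0⟩,
   ⟨4, 1, 1, -2, 2, 0⟩, ⟨2, 1, 0, -2, 2, 1⟩, ⟨2, 1, 0, 2, 2, 1⟩, ⟨4, 1, -1, 0, 2, -1⟩, ⟨4, 1, -1, 0, 2, 0⟩,
   ⟨4, 1, 1, 0, 2, -1⟩, ⟨4, 1, 1, 0, 2, 0⟩, ⟨4, 1, 0, 0, 2, -1⟩, ⟨4, 1, 0, 0, 2, 0⟩, ⟨4, 1, -1, 1, 1, 0⟩,
   ⟨4, 1, 1, -1, 1, 0⟩, ⟨4, 1, 0, -1, 1, 0⟩, ⟨4, 1, 0, 1, 1, 0⟩, ⟨1, 1, -3, 0, 0, 0⟩, ⟨1, 1, 3, 0, 0, 0⟩,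
   ⟨1, 1, -2, 0, 0, 0⟩, ⟨1, 1, 2, 0, 0, 0⟩, ⟨1, 1, -1, 0, 0, 0⟩, ⟨1, 1, 1, 0, 0, 0⟩, ⟨1, 1, 0, 0, 0, 0⟩]

def repsZero : List Rep :=
  [⟨2, 0, -2, 2, 10, 5⟩, ⟨2, 0, -1, 2, 10, 5⟩, ⟨2, 0, 0, -2, 10, 5⟩, ⟨2, 0, -2, 4, 8, 4⟩, ⟨4, 0, -1, 1, 5, -2⟩,
   ⟨4, 0, -1, 1, 5, 0⟩, ⟨4, 0, 0, -1, 5, -2⟩, ⟨4, 0, 0, -1, 5, 0⟩, ⟨1, 0, -3, 4, 4, 2⟩, ⟨1, 0, -2, 4, 4, 2⟩,
   ⟨1, 0, -1, 4, 4, 2⟩, ⟨4, 0, -1, 2, 4, 0⟩, ⟨2, 0, -2, 0, 4, 2⟩, ⟨2, 0, -1, 0, 4, 2⟩, ⟨4, 0, -1, 0, 4, -2⟩,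
   ⟨2, 0, 0, 0, 4, 2⟩, ⟨4, 0, 0, 0, 4, -2⟩, ⟨4, 0, -1, 1, 3, -1⟩, ⟨4, 0, -1, 1, 3, 1⟩, ⟨4, 0, 0, -1, 3, -1⟩,
   ⟨4, 0, 0, -1, 3, 1⟩, ⟨2, 0, -2, 2, 2, 1⟩, ⟨2, 0, -1, 2, 2, 1⟩, ⟨4, 0, -1, 2, 2, 0⟩, ⟨2, 0, 0, -2, 2, 1⟩,
   ⟨4, 0, -1, 0, 2, -1⟩, ⟨4, 0, -1, 0, 2, 0⟩, ⟨4, 0, 0, 0, 2, -1⟩, ⟨4, 0, 0, 0, 2, 0⟩, ⟨4, 0, -1, 1, 1, 0⟩,
   ⟨4, 0, 0, -1, 1, 0⟩, ⟨1, 0, -3, 0, 0, 0⟩, ⟨1, 0, -2, 0, 0, 0⟩, ⟨1, 0, -1, 0, 0, 0⟩]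

def target : Feat := ⟨4, 15, 32, 20, 15, -3, 4, -16, 2⟩

theorem search_true : searchOne repsZero 200 repsOne target [] = true := by
  decide +kernel

theorem reps_pos : ∀ x ∈ repsOne ++ repsZero,
    0 < x.feat.bb + x.feat.aa + x.feat.cc + x.feat.qq + x.feat.ee ∧
    0 ≤ x.feat.bb ∧ 0 ≤ x.feat.aa ∧ 0 ≤ x.feat.cc ∧ 0 ≤ x.feat.qq ∧ 0 ≤ x.feat.ee := by
  decide +kernel

theorem repsOne_b0 : ∀ x ∈ repsOne, 0 < x.feat.bb := by decide +kernel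

theorem repsZero_b0 : ∀ x ∈ repsZero, x.feat.bb = 0 ∧ x.feat.ab = 0 ∧ x.feat.bc = 0 := by
  decide +kernel

end CfsgLib.U34Char.Cert
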